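import Cfsg.Agent.Lib.Blocks.Brandt.Reduce
import Cfsg.Agent.Lib.Blocks.HeightZero
import Cfsg.Agent.Lib.Blocks.PPart
import Cfsg.Agent.Lib.Blocks.Green
import Cfsg.Agent.Lib.Blocks.Pairs.Bridge
import Cfsg.Agent.Lib.BlockReg.Regular
import Cfsg.Agent.Lib.BlockRank.Basic

/-!
# A block of rank one has a single simple module
-/

set_option autoImplicit false
set_option maxHeartbeats 1000000
set_option synthInstance.maxHeartbeats 400000

namespace CfsgLib.Brandt

open Cfsg CfsgLib.Blocks CfsgLib.BlockReg Module
open scoped Classical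

universe u

variable {G : Type u} [Group G] [Finite G] {p : ℕ} [Fact p.Prime] {M : Ideal AlgInt} [M.IsMaximal]

noncomputable local instance : Field (ResField M) := Ideal.Quotient.field M

omit [Finite G] in
/-- A trace-like functional only sees the `p`-regular part of a group element. -/
theorem TraceLike.apply_single_mul {k : Type*} [Field k] [CharP k p]
    {ε : MonoidAlgebra k G} {F : MonoidAlgebra k G →ₗ[k] k} (hF : TraceLike ε F) {x y : G}
    (hxy : Commute x y) {j : ℕ} (hx : x ^ p ^ j = 1) :
    F (MonoidAlgebra.single (x * y) 1) = F (MonoidAlgebra.single y 1) := by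
  have : CharP (MonoidAlgebra k G) p :=
    charP_of_injective_ringHom (algebraMap k (MonoidAlgebra k G)).injective p
  have hu : IsNilpotent (MonoidAlgebra.single x (1 : k) - 1) := ⟨p ^ j, by
    rw [sub_pow_char_pow_of_commute p j (Commute.one_right _), one_pow, MonoidAlgebra.single_pow, one_pow,
      hx, ← MonoidAlgebra.one_def, sub_self]⟩
  have hc : Commute (MonoidAlgebra.single x (1 : k) - 1) (MonoidAlgebra.single y 1) := by
    refine Commute.sub_left ?_ (Commute.one_left _)
    show _ * _ = _ * _
    rw [MonoidAlgebra.single_mul_single, MonoidAlgebra.single_mul_single, hxy.eq]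
  have h0 := hF.2.2 _ (hc.isNilpotent_mul_right hu)
  rwa [sub_mul, one_mul, MonoidAlgebra.single_mul_single, one_mul, map_sub, sub_eq_zero] at h0

/-- A trace-like functional on a block is, on group elements, the reduction of a combination of the
characters of the block. -/
theorem exists_lift (hM : IsPModular p M) {B : Set (IrrCharacter G)} (hB : IsPBlock M B)
    [CharP (ResField M) p]
    {F : MonoidAlgebra (ResField M) G →ₗ[ResField M] ResField M}
    (hF : TraceLike (blockIdem hB : MonoidAlgebra (ResField M) G) F) :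
    ∃ a : IrrCharacter G → locRing M, ∀ g : G, F (MonoidAlgebra.single g 1) =
      red M (∑ χ ∈ (Set.toFinite B).toFinset, a χ * ⟨(χ : G → ℂ) g, char_mem_locRing χ g⟩) := by
  have := Fintype.ofFinite G
  have := Fintype.ofFinite B
  have hp : p.Prime := Fact.out
  set k := ResField M
  let f : G → k := fun g => F (MonoidAlgebra.single g 1)
  have hf : ∀ g h, IsConj g h → f g = f h := by
    intro g h hgh
    obtain ⟨c, rfl⟩ := isConj_iff.1 hgh
    show F _ = F _
    rw [show MonoidAlgebra.single (c * g * c⁻¹) (1 : k) =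
        MonoidAlgebra.single c 1 * (MonoidAlgebra.single g 1 * MonoidAlgebra.single c⁻¹ 1) by
      rw [MonoidAlgebra.single_mul_single, MonoidAlgebra.single_mul_single, one_mul, one_mul, mul_assoc],
      hF.1, mul_assoc, MonoidAlgebra.single_mul_single, inv_mul_cancel, one_mul,
      MonoidAlgebra.single_mul_single, one_mul, mul_one]
  let s : k → locRing M := Function.surjInv (red_surjective (M := M))
  have hs : ∀ z, red M (s z) = z := Function.surjInv_eq _
  obtain ⟨c, hc, hcx⟩ := exists_combination hM (fun g => ((s (f g) : locRing M) : ℂ))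
    (fun g h hgh => by rw [hf g h hgh]) (fun g => mem_locRing_iff.1 (s (f g)).2)
  let a : IrrCharacter G → locRing M := fun χ => ⟨c χ, mem_locRing_iff.2 (hc χ)⟩
  let X : IrrCharacter G → G → locRing M := fun χ g => ⟨(χ : G → ℂ) g, char_mem_locRing χ g⟩
  -- the lift holds at every element
  have hall : ∀ g : G, f g = red M (∑ χ, a χ * X χ g) := by
    intro g
    obtain ⟨x, y, hxy, hcomm, ⟨j, hj⟩, hy⟩ := exists_isPPart hp g
    have h1 : f g = f y := by
      rw [← hxy]
      exact hF.apply_single_mul hcomm (j := j) (by rw [← hj, pow_orderOf_eq_one])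
    have h2 : (∑ χ, a χ * X χ y : locRing M) = s (f y) := by
      refine Subtype.ext ?_
      rw [AddSubmonoidClass.coe_finsetSum]
      have h3 := hcx y hy
      rw [finsum_eq_sum_of_fintype] at h3
      exact h3
    rw [h1, map_sum, show f y = red M (∑ χ, a χ * X χ y) by rw [h2, hs], map_sum]
    refine Finset.sum_congr rfl fun χ _ => ?_
    rw [map_mul, map_mul]
    congr 1
    have := red_char_mul_eq hp hM.2.2 χ hcomm hj hy
    simp only [hxy] at this
    exact this.symm
  refine ⟨a, fun g => ?_⟩
  -- project to the block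
  have hmul : ∀ χ : IrrCharacter G, ∑ h, blockCoeff B h * (χ : G → ℂ) (h * g) =
      if χ ∈ B then (χ : G → ℂ) g else 0 := by
    intro χ
    split_ifs with hχ
    · exact sum_blockCoeff_mul_apply B hχ g
    · obtain ⟨n, ρ, hρi, hρ⟩ := χ.2
      have := hρi
      have hcf : IsClassFunction G (blockCoeff B) := fun u v => blockCoeff_conj B v u
      have hop := CfsgLib.Char.opOfFun_irreducible ρ hcf
      have h := omega_idemC B χ
      rw [omega_eq_sum, coe_idemC, blockInd, if_neg hχ] at h
      simp only [coeff_ofFun, ← hρ, Representation.char_one] at h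
      rw [h, zero_smul] at hop
      have h2 := congrArg (fun T : Module.End ℂ (Fin n → ℂ) =>
        LinearMap.trace ℂ (Fin n → ℂ) (T * ρ g)) hop
      simp only [CfsgLib.Char.opOfFun, Finset.sum_mul, map_sum, smul_mul_assoc, map_smul, smul_eq_mul,
        ← map_mul, zero_mul, map_zero] at h2
      rw [← hρ]
      exact h2
  calc F (MonoidAlgebra.single g 1)
      = F ((blockIdem hB : MonoidAlgebra k G) * MonoidAlgebra.single g 1) := (hF.2.1 _).symm
    _ = ∑ h, red M ⟨blockCoeff B h, blockCoeff_mem hB h⟩ * f (h * g) := by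
        conv_lhs => rw [← MonoidAlgebra.sum_coeff_single (blockIdem hB : MonoidAlgebra k G)]
        rw [Finsupp.sum_fintype _ _ (fun h => by simp), Finset.sum_mul, map_sum]
        refine Finset.sum_congr rfl fun h _ => ?_
        rw [MonoidAlgebra.single_mul_single, mul_one, coeff_blockIdem,
          ← mul_one (red M _), ← MonoidAlgebra.smul_single', map_smul, mul_one, smul_eq_mul]
    _ = red M (∑ χ, a χ * ∑ h, ⟨blockCoeff B h, blockCoeff_mem hB h⟩ * X χ (h * g)) := by
        simp only [hall, map_sum, map_mul, Finset.mul_sum]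
        rw [Finset.sum_comm]
        exact Finset.sum_congr rfl fun χ _ => Finset.sum_congr rfl fun h _ => mul_left_comm _ _ _
    _ = _ := by
        congr 1
        refine (Finset.sum_congr rfl fun χ _ => ?_).trans
          (Finset.sum_filter (· ∈ B) (fun χ => a χ * X χ g)).symm |>.trans ?_
        · rw [show (∑ h, ⟨blockCoeff B h, blockCoeff_mem hB h⟩ * X χ (h * g) : locRing M) =
            if χ ∈ B then X χ g else 0 from Subtype.ext ?_]
          · split_ifs <;> simp
          · rw [AddSubmonoidClass.coe_finsetSum]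
            refine (hmul χ).trans ?_
            split_ifs <;> rfl
        · exact Finset.sum_congr (by ext χ; simp) fun _ _ => rfl

/-- A block of rank one has a single simple module. -/
theorem oneSimple_of_blockRank_one (hM : IsPModular p M) {B : Set (IrrCharacter G)}
    (hB : IsPBlock M B) [CharP (ResField M) p] (hl : blockRank p B = 1) :
    OneSimple (ResField M) (blockIdem hB : MonoidAlgebra (ResField M) G) := by
  refine Or.inr fun F₁ F₂ h₁ h₂ hli => ?_
  have := Fintype.ofFinite G
  have := Fintype.ofFinite B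
  set k := ResField M
  let S : Set ({g : G // IsPRegular p g} → locRing M) :=
    (fun χ : IrrCharacter G => fun g => ⟨(χ : G → ℂ) g.1, char_mem_locRing χ g.1⟩) '' B
  let res : (MonoidAlgebra k G →ₗ[k] k) →ₗ[k] ({g : G // IsPRegular p g} → k) :=
    { toFun := fun F g => F (MonoidAlgebra.single g.1 1)
      map_add' := fun F F' => rfl
      map_smul' := fun t F => rfl }
  have hmem : ∀ F, TraceLike (blockIdem hB : MonoidAlgebra k G) F →
      res F ∈ Submodule.span k ((fun v g => red M (v g)) '' S) := by
    intro F hF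
    obtain ⟨a, ha⟩ := exists_lift hM hB hF
    have he : res F = ∑ χ ∈ (Set.toFinite B).toFinset,
        red M (a χ) • fun g : {g : G // IsPRegular p g} =>
          red M ⟨(χ : G → ℂ) g.1, char_mem_locRing χ g.1⟩ := by
      funext g
      simp only [res, LinearMap.coe_mk, AddHom.coe_mk, ha, Finset.sum_apply, Pi.smul_apply,
        smul_eq_mul, map_sum, map_mul]
    rw [he]
    exact Submodule.sum_mem _ fun χ hχ => Submodule.smul_mem _ _
      (Submodule.subset_span ⟨_, ⟨χ, (Set.toFinite B).mem_toFinset.1 hχ, rfl⟩, rfl⟩)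
  have hdim : finrank k (Submodule.span k ((fun v g => red M (v g)) '' S)) ≤ 1 := by
    refine (finrank_span_red_le S).trans (le_of_le_of_eq ?_ hl)
    unfold blockRank
    rw [Set.image_image]
    refine le_trans (le_of_eq ?_) (Submodule.finrank_map_le
      (LinearMap.funLeft ℂ ℂ (fun g : {g : G // IsPRegular p g} => g.1)) _)
    rw [Submodule.map_span, Set.image_image]
    have heq : (fun χ : IrrCharacter G => fun g : {g : G // IsPRegular p g} => (χ : G → ℂ) g.1) =
        fun χ : IrrCharacter G => (LinearMap.funLeft ℂ ℂ fun g : {g : G // IsPRegular p g} => g.1)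
          (pRegularPart p (χ : G → ℂ)) := by
      funext χ g
      simp [LinearMap.funLeft_apply, CfsgLib.BlockRank.pRegularPart_apply, g.2]
    rw [← heq]
  obtain ⟨s, t, hst, hne⟩ : ∃ s t : k, s • res F₁ + t • res F₂ = 0 ∧ (s ≠ 0 ∨ t ≠ 0) := by
    by_contra hcon
    push Not at hcon
    let V := Submodule.span k ((fun v g => red M (v g)) '' S)
    have hli2 : LinearIndependent k ![(⟨res F₁, hmem F₁ h₁⟩ : V), ⟨res F₂, hmem F₂ h₂⟩] := by
      refine LinearIndependent.pair_iff.2 fun s t h => ?_
      exact hcon s t (congrArg Subtype.val h)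
    have h3 := hli2.fintype_card_le_finrank.trans hdim
    rw [Fintype.card_fin] at h3
    omega
  have hzero : s • F₁ + t • F₂ = 0 := by
    have hTL : TraceLike (blockIdem hB : MonoidAlgebra k G) (s • F₁ + t • F₂) :=
      ⟨fun a b => by simp [h₁.1 a b, h₂.1 a b], fun a => by simp [h₁.2.1 a, h₂.2.1 a],
        fun a ha => by simp [h₁.2.2 a ha, h₂.2.2 a ha]⟩
    refine (MonoidAlgebra.basis G k).ext fun g => ?_
    obtain ⟨x, y, hxy, hcomm, ⟨j, hj⟩, hy⟩ := exists_isPPart (Fact.out : p.Prime) g
    have h := hTL.apply_single_mul hcomm (j := j) (by rw [← hj, pow_orderOf_eq_one])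
    rw [hxy] at h
    have h' := congrFun hst ⟨y, hy⟩
    simp only [Pi.add_apply, Pi.smul_apply, Pi.zero_apply] at h'
    simp [MonoidAlgebra.basis] at h ⊢
    rw [h]
    exact h'
  obtain ⟨hs, ht⟩ := LinearIndependent.pair_iff.1 hli s t hzero
  tauto

/-- The block idempotent with the coefficient at one as symmetrizing form. -/
theorem setup_blockIdem {B : Set (IrrCharacter G)} (hB : IsPBlock M B) :
    ∃ τ : MonoidAlgebra (ResField M) G →ₗ[ResField M] ResField M,
      Setup τ (blockIdem hB : MonoidAlgebra (ResField M) G) := by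
  have := Fintype.ofFinite G
  set k := ResField M
  let τ : MonoidAlgebra k G →ₗ[k] k :=
    { toFun := fun a => a.coeff 1
      map_add' := fun a b => by simp
      map_smul' := fun c a => by simp }
  have hblk := Pairs.isBlockIdem_ebar hB
  have hc : ∀ a, (blockIdem hB : MonoidAlgebra k G) * a = a * blockIdem hB := fun a =>
    ((Subalgebra.mem_center_iff.1 (blockIdem hB).2) a).symm
  refine ⟨τ, fun a b => ?_, fun a ha => ?_, hblk.idem, hc, hblk.ne_zero, fun z hz hzi => ?_⟩
  · show (a * b).coeff 1 = (b * a).coeff 1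
    rw [coeff_mul_group, coeff_mul_group]
    refine Fintype.sum_equiv (Equiv.inv G) _ _ fun g => ?_
    simp [mul_comm]
  · refine MonoidAlgebra.ext (Finsupp.ext fun g => ?_)
    have h := ha (MonoidAlgebra.single g⁻¹ 1)
    show a.coeff g = 0
    rw [← h]
    show _ = (a * MonoidAlgebra.single g⁻¹ 1).coeff 1
    rw [coeff_mul_single_group]
    simp
  · exact hblk.prim z (Pairs.inCenter_top_iff.mpr (Subalgebra.mem_center_iff.2 fun a => (hz a).symm))
      hzi

/-- In a block of rank one with at most four characters all degrees are equal. -/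
theorem exists_common_degree_of_rankOne (hM : IsPModular p M) {B : Set (IrrCharacter G)}
    (hB : IsPBlock M B) [CharP (ResField M) p] (hl : blockRank p B = 1) (hk : Nat.card B ≤ 4) :
    ∃ N : ℕ, ∀ χ ∈ B, charDegree (χ : G → ℂ) = N := by
  have := isAlgClosed_resField (M := M)
  have := Fintype.ofFinite G
  have := Fintype.ofFinite B
  have hfd : FiniteDimensional (ResField M) (MonoidAlgebra (ResField M) G) :=
    Module.Finite.of_basis (MonoidAlgebra.basis G _)
  obtain ⟨τ, hset⟩ := setup_blockIdem hB
  obtain ⟨N, hN, hdim, hdvd⟩ := hset.exists_bound_of hk (finrank_centerPart_le hB)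
    (oneSimple_of_blockRank_one hM hB hl)
  have hsum := (sum_deg_sq_le hB).trans hdim
  have hall : ∀ ψ ∈ B.toFinset, N ^ 2 ≤ charDegree (ψ : G → ℂ) ^ 2 := fun ψ hψ => by
    obtain ⟨L, _, _, Φ, hΦ⟩ := exists_reduction hB (Set.mem_toFinset.1 hψ)
    exact Nat.pow_le_pow_left (Nat.le_of_dvd (deg_pos ψ) (hdvd L _ Φ hΦ)) 2
  have hconst : ∑ χ ∈ B.toFinset, N ^ 2 = Nat.card B * N ^ 2 := by
    rw [Finset.sum_const, smul_eq_mul, Set.toFinset_card, Nat.card_eq_fintype_card]
  have heq := (Finset.sum_eq_sum_iff_of_le hall).1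
    (le_antisymm (Finset.sum_le_sum hall) (hsum.trans hconst.ge))
  exact ⟨N, fun χ hχ => (Nat.pow_left_injective two_ne_zero (heq χ (Set.mem_toFinset.2 hχ))).symm⟩

end CfsgLib.Brandt
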