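import Mathlib.RingTheory.SimpleModule.IsAlgClosed
import Mathlib.RingTheory.Idempotents
import Mathlib.RingTheory.HopkinsLevitzki
import Mathlib.LinearAlgebra.Dual.Lemmas
import Mathlib.Algebra.Algebra.Bilinear
import Mathlib.Algebra.Algebra.Operations
import Mathlib.LinearAlgebra.Matrix.Trace
import Mathlib.Algebra.Central.Matrix

/-!
# A block of a symmetric algebra whose centre has dimension at most two
-/

set_option autoImplicit false
set_option maxHeartbeats 1000000

namespace CfsgLib.Brandt

open Module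

variable {k A : Type*} [Field k] [Ring A] [Algebra k A]

/-- The part of the centre under an element. -/
noncomputable def centerPart (ε : A) : Submodule k A :=
  (Subalgebra.toSubmodule (Subalgebra.center k A)).map (LinearMap.mulLeft k ε)

/-- A symmetrizing form, together with a primitive idempotent of the centre. -/
structure Setup (τ : A →ₗ[k] k) (ε : A) : Prop where
  sym : ∀ a b, τ (a * b) = τ (b * a)
  nondeg : ∀ a, (∀ b, τ (a * b) = 0) → a = 0
  idem : ε * ε = ε
  central : ∀ a, ε * a = a * ε
  ne_zero : ε ≠ 0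
  prim : ∀ z : A, (∀ a, z * a = a * z) → z * z = z → z * ε = ε ∨ z * ε = 0

variable [FiniteDimensional k A] {τ : A →ₗ[k] k} {ε : A}

/-- Class functions living on the part of `ε` are given by elements of the centre. -/
theorem Setup.exists_rep (h : Setup τ ε) (F : A →ₗ[k] k) (hsym : ∀ a b, F (a * b) = F (b * a))
    (hε : ∀ a, F (ε * a) = F a) :
    ∃ z ∈ centerPart (k := k) ε, ∀ a, F a = τ (z * a) := by
  let L : A →ₗ[k] Module.Dual k A := (LinearMap.mul k A).compr₂ τ
  have hL : ∀ a b, L a b = τ (a * b) := fun a b => rfl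
  have hinj : Function.Injective L := by
    rw [injective_iff_map_eq_zero]
    exact fun a ha => h.nondeg a fun b => (hL a b).symm.trans (LinearMap.congr_fun ha b)
  obtain ⟨z, hz⟩ :=
    (LinearMap.injective_iff_surjective_of_finrank_eq_finrank Subspace.dual_finrank_eq.symm).1 hinj F
  have hzF : ∀ a, F a = τ (z * a) := fun a => by rw [← hz, hL]
  have hc : ∀ a, z * a = a * z := fun a => by
    refine sub_eq_zero.1 (h.nondeg _ fun b => ?_)
    rw [sub_mul, map_sub, mul_assoc, ← hzF, h.sym (a * z) b, ← mul_assoc, h.sym (b * a) z, ← hzF,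
      hsym, sub_self]
  have hεz : ε * z = z := by
    refine sub_eq_zero.1 (h.nondeg _ fun b => ?_)
    rw [sub_mul, map_sub, ← hzF, h.central z, mul_assoc, ← hzF, hε, sub_self]
  exact ⟨z, ⟨z, (Subalgebra.mem_center_iff (R := k)).2 fun a => (hc a).symm, hεz⟩, hzF⟩

/-- The space of class functions on the part of `ε` is no larger than that part of the centre. -/
theorem Setup.finrank_le (h : Setup τ ε) (T : Submodule k (A →ₗ[k] k))
    (hT : ∀ F ∈ T, (∀ a b, F (a * b) = F (b * a)) ∧ ∀ a, F (ε * a) = F a) :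
    finrank k T ≤ finrank k (centerPart (k := k) ε) := by
  let L : A →ₗ[k] Module.Dual k A := (LinearMap.mul k A).compr₂ τ
  refine (Submodule.finrank_mono (?_ : T ≤ (centerPart (k := k) ε).map L)).trans
    (Submodule.finrank_map_le _ _)
  intro F hF
  obtain ⟨z, hz, hzF⟩ := h.exists_rep F (hT F hF).1 (hT F hF).2
  exact ⟨z, hz, LinearMap.ext fun a => (hzF a).symm⟩

variable [IsAlgClosed k]

/-- A class function on the part of `ε` killing the nilpotent elements. -/
def TraceLike (ε : A) (F : A →ₗ[k] k) : Prop :=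
  (∀ a b, F (a * b) = F (b * a)) ∧ (∀ a, F (ε * a) = F a) ∧ ∀ a, IsNilpotent a → F a = 0

/-- A sufficient condition for the part of `ε` to have a single simple module. -/
def OneSimple (k : Type*) {A : Type*} [Field k] [Ring A] [Algebra k A] (ε : A) : Prop :=
  finrank k (centerPart (k := k) ε) ≤ 2 ∨
    ∀ F₁ F₂ : A →ₗ[k] k, TraceLike ε F₁ → TraceLike ε F₂ → ¬ LinearIndependent k ![F₁, F₂]

/-- Only one simple component meets `ε`. -/
theorem Setup.exists_simple (h : Setup τ ε) (hZ : OneSimple k ε) :
    ∃ (N : ℕ) (ρ : A →ₐ[k] Matrix (Fin N) (Fin N) k) (K : Ideal A), 0 < N ∧ Function.Surjective ρ ∧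
      ρ ε = 1 ∧ IsNilpotent K ∧ ∀ a, ε * a = a → ρ a = 0 → a ∈ K := by
  classical
  have : IsArtinianRing A := IsArtinianRing.of_finite k A
  set J := Ring.jacobson A with hJ
  obtain ⟨n, d, hd, ⟨eW⟩⟩ := IsSemisimpleRing.exists_algEquiv_pi_matrix_of_isAlgClosed k (A ⧸ J)
  let ψ : A →ₐ[k] Π i, Matrix (Fin (d i)) (Fin (d i)) k :=
    eW.toAlgHom.comp (Ideal.Quotient.mkₐ k J)
  have hsurj : Function.Surjective ψ := eW.surjective.comp Ideal.Quotient.mk_surjective
  have hker : ∀ a, ψ a = 0 → a ∈ J := fun a ha => by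
    rw [← Ideal.Quotient.eq_zero_iff_mem]
    exact eW.injective (ha.trans (map_zero eW).symm)
  have hnil : IsNilpotent J := IsSemiprimaryRing.isNilpotent
  have hnilel : ∀ a, ψ a = 0 → IsNilpotent a := fun a ha => by
    obtain ⟨m, hm⟩ := hnil
    exact ⟨m, by simpa [hm] using Ideal.pow_mem_pow (hker a ha) m⟩
  -- components of `ε`
  have hcomp : ∀ i, ψ ε i = 0 ∨ ψ ε i = 1 := by
    intro i
    have hc : ψ ε i ∈ Set.range (Matrix.scalar (Fin (d i))) := by
      refine Matrix.mem_range_scalar_iff_commute_single'.2 fun u v => ?_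
      obtain ⟨a, ha⟩ := hsurj (Pi.single i (Matrix.single u v 1))
      have := congrFun (congrArg ψ (h.central a)) i
      simp [ha] at this
      exact this.symm
    obtain ⟨c, hc⟩ := hc
    replace hc : algebraMap k (Matrix (Fin (d i)) (Fin (d i)) k) c = ψ ε i := hc
    have hi : algebraMap k (Matrix (Fin (d i)) (Fin (d i)) k) (c * c) = algebraMap k _ c := by
      rw [map_mul, hc, ← Pi.mul_apply, ← map_mul, h.idem]
    rcases IsIdempotentElem.iff_eq_zero_or_one.1 ((algebraMap k _).injective hi) with h0 | h1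
    · left; rw [← hc, h0, map_zero]
    · right; rw [← hc, h1, map_one]
  obtain ⟨i, hi⟩ : ∃ i, ψ ε i = 1 := by
    by_contra hcon
    push Not at hcon
    have h0 : ψ ε = 0 := funext fun i => (hcomp i).resolve_right (hcon i)
    exact h.ne_zero (IsIdempotentElem.eq_zero_of_isNilpotent h.idem (hnilel ε h0))
  have huniq : ∀ j, j ≠ i → ψ ε j = 0 := by
    intro j hji
    refine (hcomp j).resolve_right fun hj => ?_
    rcases hZ with hZ | hsep
    swap
    · have htl : ∀ l, ψ ε l = 1 → TraceLike ε
          ((Matrix.traceLinearMap (Fin (d l)) k k).comp ((LinearMap.proj l).comp ψ.toLinearMap)) := by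
        intro l hl
        refine ⟨fun a b => by simp [Matrix.trace_mul_comm (ψ a l) (ψ b l)], fun a => by simp [hl],
          fun a ha => ?_⟩
        exact IsNilpotent.eq_zero
          (Matrix.isNilpotent_trace_of_isNilpotent ((ha.map ψ).map (Pi.evalRingHom _ l)))
      have := hd i
      have := hd j
      obtain ⟨a, ha⟩ := hsurj (Pi.single i (Matrix.single 0 0 1))
      obtain ⟨b, hb⟩ := hsurj (Pi.single j (Matrix.single 0 0 1))
      refine hsep _ _ (htl i hi) (htl j hj) (LinearIndependent.pair_iff.2 fun s t hst => ?_)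
      have h1 := LinearMap.congr_fun hst a
      have h2 := LinearMap.congr_fun hst b
      simp [ha, Pi.single_eq_of_ne hji] at h1
      simp [hb, Pi.single_eq_of_ne hji.symm] at h2
      exact ⟨h1, h2⟩
    -- three class functions on the part of `ε`
    let F : Fin 3 → (A →ₗ[k] k) :=
      ![τ.comp (LinearMap.mulLeft k ε),
        (Matrix.traceLinearMap (Fin (d i)) k k).comp ((LinearMap.proj i).comp ψ.toLinearMap),
        (Matrix.traceLinearMap (Fin (d j)) k k).comp ((LinearMap.proj j).comp ψ.toLinearMap)]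
    have hF : ∀ G ∈ Submodule.span k (Set.range F),
        (∀ a b, G (a * b) = G (b * a)) ∧ ∀ a, G (ε * a) = G a := by
      intro G hG
      induction hG using Submodule.span_induction with
      | mem G hG =>
        obtain ⟨t, rfl⟩ := hG
        fin_cases t
        · exact ⟨fun a b => by
              show τ (ε * (a * b)) = τ (ε * (b * a))
              rw [← mul_assoc, h.sym (ε * a) b, ← mul_assoc, ← h.central b, mul_assoc],
            fun a => by simp [F, ← mul_assoc, h.idem]⟩
        · exact ⟨fun a b => by simp [F, Matrix.trace_mul_comm (ψ a i) (ψ b i)],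
            fun a => by simp [F, hi]⟩
        · exact ⟨fun a b => by simp [F, Matrix.trace_mul_comm (ψ a j) (ψ b j)],
            fun a => by simp [F, hj]⟩
      | zero => simp
      | add G G' _ _ h1 h2 =>
        exact ⟨fun a b => by simp [h1.1 a b, h2.1 a b], fun a => by simp [h1.2 a, h2.2 a]⟩
      | smul c G _ h1 => exact ⟨fun a b => by simp [h1.1 a b], fun a => by simp [h1.2 a]⟩
    have hdep : ¬ LinearIndependent k F := fun hli => by
      have h1 := (h.finrank_le _ hF).trans hZ
      rw [finrank_span_eq_card hli, Fintype.card_fin] at h1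
      omega
    obtain ⟨g, hg, t, ht⟩ := Fintype.not_linearIndependent_iff.1 hdep
    have hval : ∀ a, g 0 * τ (ε * a) + g 1 * (ψ a i).trace + g 2 * (ψ a j).trace = 0 := fun a => by
      have := LinearMap.congr_fun hg a
      simpa [Fin.sum_univ_three, F, add_assoc] using this
    have hg0 : g 0 ≠ 0 := by
      intro h0
      have := hd i
      have := hd j
      obtain ⟨a, ha⟩ := hsurj (Pi.single i (Matrix.single 0 0 1))
      obtain ⟨b, hb⟩ := hsurj (Pi.single j (Matrix.single 0 0 1))
      have h1 := hval a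
      have h2 := hval b
      simp [ha, h0, Pi.single_eq_of_ne hji] at h1
      simp [hb, h0, Pi.single_eq_of_ne hji.symm] at h2
      fin_cases t <;> simp_all
    have hεker : ∀ a, ψ a = 0 → ε * a = 0 := fun a ha => h.nondeg _ fun b => by
      have h1 := hval (a * b)
      simp [map_mul, ha] at h1
      rw [mul_assoc]
      exact h1.resolve_left hg0
    obtain ⟨a, ha⟩ := hsurj (Pi.single i 1)
    have hψz : ψ (ε * a) = Pi.single i 1 := by
      rw [map_mul, ha]
      funext l
      rcases eq_or_ne l i with rfl | hl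
      · simp [hi]
      · simp [hl]
    have hzc : ∀ b, ε * a * b = b * (ε * a) := fun b => by
      have h1 : ψ (ε * a * b - b * (ε * a)) = 0 := by
        rw [map_sub, map_mul, map_mul ψ b, hψz, sub_eq_zero]
        funext l
        rcases eq_or_ne l i with rfl | hl
        · simp
        · simp [hl]
      have h2 := hεker _ h1
      rw [mul_sub, ← mul_assoc ε (ε * a) b, ← mul_assoc ε ε a, h.idem, ← mul_assoc ε b, h.central b,
        mul_assoc b ε, ← mul_assoc ε ε a, h.idem] at h2
      exact sub_eq_zero.1 h2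
    have hzz : ε * a * (ε * a) = ε * a := by
      have h1 : ψ (ε * a * (ε * a) - ε * a) = 0 := by
        rw [map_sub, map_mul, hψz, sub_eq_zero]
        funext l
        rcases eq_or_ne l i with rfl | hl
        · simp
        · simp [hl]
      have h2 := hεker _ h1
      rw [mul_sub, ← mul_assoc ε (ε * a), ← mul_assoc ε ε a, h.idem] at h2
      exact sub_eq_zero.1 h2
    have := hd i
    have := hd j
    rcases h.prim _ hzc hzz with h1 | h1
    · have h2 := congrFun (congrArg ψ h1) j
      simp [map_mul, hψz, hji, hj] at h2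
    · have h2 := congrFun (congrArg ψ h1) i
      simp [map_mul, hψz, hi] at h2
  refine ⟨d i, (Pi.evalAlgHom k _ i).comp ψ, J, Nat.pos_of_ne_zero (hd i).out, ?_, hi, hnil, ?_⟩
  · intro Q
    obtain ⟨a, ha⟩ := hsurj (Pi.single i Q)
    exact ⟨a, by simp [ha]⟩
  · intro a ha h0
    refine hker a (funext fun l => ?_)
    rcases eq_or_ne l i with rfl | hl
    · exact h0
    · rw [← ha, map_mul, Pi.mul_apply, huniq l hl, zero_mul]
      rfl

/-- Matrix units of the part of `ε`, over a local corner. -/
theorem Setup.exists_units (h : Setup τ ε) (hZ : OneSimple k ε) :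
    ∃ (N : ℕ) (e : A) (x y : Fin N → A) (K : Ideal A) (r : A →ₗ[k] k), 0 < N ∧ IsNilpotent K ∧
      e * e = e ∧ ε * e = e ∧ (∀ i, x i * e = x i) ∧ (∀ i, e * y i = y i) ∧
      (∀ i, ε * x i = x i) ∧ (∀ i, y i * ε = y i) ∧ (∀ i, y i * x i = e) ∧
      (∀ i j, i ≠ j → y i * x j = 0) ∧ ∑ i, x i * y i = ε ∧
      (∀ a, e * a * e - r a • e ∈ K) := by
  classical
  obtain ⟨N, ρ, K, hN, hsurj, hρε, hKnil, hK⟩ := h.exists_simple hZ
  have hnil : ∀ a, ε * a = a → ρ a = 0 → IsNilpotent a := fun a ha h0 => by
    obtain ⟨m, hm⟩ := hKnil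
    exact ⟨m, by simpa [hm] using Ideal.pow_mem_pow (hK a ha h0) m⟩
  have hz : ∀ a, ε * a = a → IsIdempotentElem a → ρ a = 0 → a = 0 := fun a ha hi h0 =>
    IsIdempotentElem.eq_zero_of_isNilpotent hi (hnil a ha h0)
  -- lift the diagonal idempotents inside the part of `ε`
  let I : Ideal A :=
    { carrier := {a | ε * a = a}
      add_mem' := fun {a b} (ha : ε * a = a) (hb : ε * b = b) => by
        show ε * (a + b) = a + b
        rw [mul_add, ha, hb]
      zero_mem' := mul_zero ε
      smul_mem' := fun c a (ha : ε * a = a) => by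
        show ε * (c * a) = c * a
        rw [← mul_assoc, h.central c, mul_assoc, ha] }
  have : I.IsTwoSided := ⟨fun {a} b (ha : ε * a = a) => show ε * (a * b) = a * b by
    rw [← mul_assoc, ha]⟩
  let f : A →+* Matrix (Fin N) (Fin N) k × (A ⧸ I) := RingHom.prod ρ.toRingHom (Ideal.Quotient.mk I)
  have hker : ∀ a ∈ RingHom.ker f, IsNilpotent a := fun a ha => by
    rw [RingHom.mem_ker, RingHom.prod_apply, Prod.mk_eq_zero, Ideal.Quotient.eq_zero_iff_mem] at ha
    exact hnil a ha.2 ha.1
  have hrange : ∀ Q : Matrix (Fin N) (Fin N) k, ((Q, 0) : Matrix (Fin N) (Fin N) k × (A ⧸ I)) ∈ f.range := by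
    intro Q
    obtain ⟨a, ha⟩ := hsurj Q
    refine ⟨ε * a, Prod.ext ?_ ?_⟩
    · show ρ (ε * a) = Q
      rw [map_mul, hρε, one_mul, ha]
    · exact Ideal.Quotient.eq_zero_iff_mem.2 (show ε * (ε * a) = ε * a by rw [← mul_assoc, h.idem])
  obtain ⟨E, hEorth, hEf⟩ := OrthogonalIdempotents.lift_of_isNilpotent_ker f hker
    (e := fun i : Fin N => ((Matrix.single i i 1, 0) : Matrix (Fin N) (Fin N) k × (A ⧸ I)))
    ⟨fun i => Prod.ext (by simp) (by simp),
      fun i j hij => Prod.ext (by simp [Matrix.single_mul_single_of_ne _ _ _ _ hij]) (by simp)⟩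
    (fun i => hrange _)
  have hEρ : ∀ i, ρ (E i) = Matrix.single i i 1 := fun i => congrArg Prod.fst (congrFun hEf i)
  have hεE : ∀ i, ε * E i = E i := fun i =>
    Ideal.Quotient.eq_zero_iff_mem.1 (congrArg Prod.snd (congrFun hEf i) : Ideal.Quotient.mk I (E i) = 0)
  have hεA : ∀ i a, ε * (E i * a) = E i * a := fun i a => by rw [← mul_assoc, hεE]
  let i₀ : Fin N := ⟨0, hN⟩
  set e := E i₀ with he
  have hee : e * e = e := hEorth.idem i₀
  choose a ha using fun i : Fin N => hsurj (Matrix.single i i₀ 1)
  choose b hb using fun i : Fin N => hsurj (Matrix.single i₀ i 1)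
  let x : Fin N → A := fun i => E i * a i * e
  let y₀ : Fin N → A := fun i => e * b i * E i
  have hρx : ∀ i, ρ (x i) = Matrix.single i i₀ 1 := fun i => by
    simp [x, map_mul, hEρ, ha, he]
  have hρy₀ : ∀ i, ρ (y₀ i) = Matrix.single i₀ i 1 := fun i => by
    simp [y₀, map_mul, hEρ, hb, he]
  have hρe : ρ e = Matrix.single i₀ i₀ 1 := hEρ i₀
  have hε1 : ∀ i, ε * x i = x i := fun i => by simp only [x, mul_assoc]; exact hεA i _
  have hxe : ∀ i, x i * e = x i := fun i => by simp only [x, mul_assoc, hee]
  have hEx : ∀ i, E i * x i = x i := fun i => by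
    simp only [x, ← mul_assoc, (hEorth.idem i).eq]
  -- invert inside the corner
  have hu : ∀ i, ∃ u, u * e = u ∧ e * u = u ∧ u * (y₀ i * x i) = e := by
    intro i
    set n := y₀ i * x i - e with hn
    have hen : e * n = n ∧ n * e = n := by
      constructor
      · simp only [hn, mul_sub, y₀, ← mul_assoc, hee]
      · simp only [hn, sub_mul, hee, mul_assoc, hxe]
    have hn0 : ρ n = 0 := by
      simp [hn, map_sub, map_mul, hρx, hρy₀, hρe]
    have hεn : ε * n = n := by rw [← hen.1, hεA]
    obtain ⟨w, hw⟩ := (hnil n hεn hn0).isUnit_one_add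
    have hcomm : e * (↑w⁻¹ : A) = (↑w⁻¹ : A) * e := by
      have h1 : Commute e (w : A) := by
        rw [hw, Commute, SemiconjBy, mul_add, add_mul, mul_one, one_mul, hen.1, hen.2]
      exact h1.units_inv_right.eq
    refine ⟨e * (↑w⁻¹ : A), by rw [hcomm, mul_assoc, hee], by rw [← mul_assoc, hee], ?_⟩
    have h2 : y₀ i * x i = (w : A) * e := by
      rw [hw, add_mul, one_mul, hen.2, hn]; abel
    rw [h2, mul_assoc, ← mul_assoc (↑w⁻¹ : A), Units.inv_mul, one_mul, hee]
  choose u hue heu huy using hu
  let y : Fin N → A := fun i => u i * y₀ i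
  have hey : ∀ i, e * y i = y i := fun i => by simp only [y, ← mul_assoc, heu]
  have hyE : ∀ i, y i * E i = y i := fun i => by
    simp only [y, y₀, mul_assoc, (hEorth.idem i).eq]
  have hyx : ∀ i, y i * x i = e := fun i => by simp only [y, mul_assoc, huy]
  have hyε : ∀ i, y i * ε = y i := fun i => by
    rw [← hyE i, mul_assoc, ← h.central, hεE]
  have hsum : ∀ i, x i * y i = E i := by
    intro i
    have hxy : x i * y i * (x i * y i) = x i * y i := by
      rw [mul_assoc, ← mul_assoc (y i), hyx, hey]
    have hl : E i * (x i * y i) = x i * y i := by rw [← mul_assoc, hEx]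
    have hr : x i * y i * E i = x i * y i := by rw [mul_assoc, hyE]
    refine (sub_eq_zero.1 (hz (E i - x i * y i) ?_ ?_ ?_)).symm
    · rw [mul_sub, hεE, ← mul_assoc, hε1]
    · simp only [IsIdempotentElem, sub_mul, mul_sub, (hEorth.idem i).eq, hl, hr, hxy]
      abel
    · have h1 : ρ (y i) = Matrix.single i₀ i 1 := by
        have hρu : ρ (u i) = Matrix.single i₀ i₀ 1 := by
          have h2 := congrArg ρ (huy i)
          rw [map_mul, map_mul, hρx, hρy₀, Matrix.single_mul_single_same, mul_one, hρe] at h2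
          rw [← h2, ← hρe, ← map_mul, hue]
        simp only [y, map_mul, hρu, hρy₀, Matrix.single_mul_single_same, mul_one]
      simp [map_sub, map_mul, hρx, h1, hEρ]
  let r : A →ₗ[k] k :=
    { toFun := fun c => ρ (e * c * e) i₀ i₀
      map_add' := fun c c' => by simp [mul_add, add_mul]
      map_smul' := fun t c => by simp }
  refine ⟨N, e, x, y, K, r, hN, hKnil, hee, hεE i₀, hxe, hey, hε1, hyε, hyx, fun i j hij => ?_, ?_,
    fun c => ?_⟩
  · rw [← hyE i, mul_assoc, ← hEx j, ← mul_assoc (E i), hEorth.ortho hij, zero_mul, mul_zero]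
  · simp only [hsum]
    refine (sub_eq_zero.1 (hz (ε - ∑ i, E i) ?_ ?_ ?_)).symm
    · rw [mul_sub, h.idem, Finset.mul_sum, Finset.sum_congr rfl fun i _ => hεE i]
    · have h1 := (hEorth.isIdempotentElem_sum (s := Finset.univ)).eq
      have h2 : ε * ∑ i, E i = ∑ i, E i := by
        rw [Finset.mul_sum, Finset.sum_congr rfl fun i _ => hεE i]
      simp only [IsIdempotentElem, sub_mul, mul_sub, h.idem, h1, h2, ← h.central]
      abel
    · rw [map_sub, hρε, map_sum, Finset.sum_congr rfl fun i _ => hEρ i, sub_eq_zero]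
      rw [Matrix.sum_single_eq_diagonal]
      exact Matrix.diagonal_one.symm
  · refine hK _ ?_ ?_
    · rw [mul_sub, mul_smul_comm, hεE i₀, mul_assoc, ← mul_assoc ε, hεE i₀]
    · rw [map_sub, map_smul, hρe, sub_eq_zero]
      have h1 : ρ (e * c * e) = Matrix.single i₀ i₀ 1 * ρ c * Matrix.single i₀ i₀ 1 := by
        rw [map_mul, map_mul, hρe]
      show _ = ρ (e * c * e) i₀ i₀ • _
      rw [h1]
      ext p q
      by_cases hp : p = i₀ <;> by_cases hq : q = i₀ <;>
        simp [Matrix.mul_apply, Matrix.single_apply, hp, hq, Ne.symm]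

omit [IsAlgClosed k] [FiniteDimensional k A] in
/-- A subspace that is spanned by `y` modulo its square lies in the span of the powers of `y`
modulo every power. -/
theorem le_span_powers_sup_pow {S : Submodule k A} {y : A} (hy : y ∈ S)
    (hS : S ≤ Submodule.span k {y} ⊔ S * S) :
    ∀ n, S ≤ Submodule.span k (Set.range fun j : ℕ => y ^ (j + 1)) ⊔ S ^ (n + 1) := by
  have hstep : ∀ n : ℕ, S ^ (n + 1) ≤ Submodule.span k {y ^ (n + 1)} ⊔ S ^ (n + 2) := by
    intro n
    induction n with
    | zero => simpa [pow_two] using hS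
    | succ n ih =>
      rw [pow_succ S (n + 1)]
      refine (mul_le_mul' ih le_rfl).trans ?_
      rw [Submodule.sup_mul, ← pow_succ S (n + 2)]
      refine sup_le ?_ le_sup_right
      refine (mul_le_mul' le_rfl hS).trans ?_
      rw [Submodule.mul_sup, Submodule.span_mul_span, Set.singleton_mul_singleton, ← pow_succ]
      refine sup_le le_sup_left (le_sup_of_le_right ?_)
      rw [← pow_two S, show n + 1 + 2 = (n + 1) + 2 from rfl, pow_add S (n + 1) 2]
      refine mul_le_mul' ?_ le_rfl
      rw [Submodule.span_le, Set.singleton_subset_iff]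
      exact Submodule.pow_mem_pow S hy (n + 1)
  intro n
  induction n with
  | zero => simp
  | succ n ih =>
    refine ih.trans (sup_le le_sup_left ((hstep n).trans (sup_le ?_ le_sup_right)))
    refine le_sup_of_le_left (Submodule.span_mono ?_)
    rintro _ rfl
    exact ⟨n, rfl⟩

omit [IsAlgClosed k] in
/-- Functionals killing a subspace, counted. -/
theorem finrank_dualAnnihilator (W : Submodule k A) :
    finrank k W + finrank k W.dualAnnihilator = finrank k A :=
  Subspace.finrank_add_finrank_dualAnnihilator_eq W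

end CfsgLib.Brandt
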