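import Cfsg.Agent.Lib.Blocks.Brandt.Corner

/-!
# The radical of a local symmetric algebra with few class functions is commutative
-/

set_option autoImplicit false
set_option maxHeartbeats 1000000

namespace CfsgLib.Brandt

open Module

variable {k A : Type*} [Field k] [Ring A] [Algebra k A]

/-- Descending along the powers of a nilpotent subspace. -/
theorem le_of_step {S P : Submodule k A} {n N : ℕ} (hnil : S ^ (N + 1) = ⊥) (hn : n ≤ N)
    (hstep : ∀ m, n ≤ m → S ^ (m + 1) ≤ P ⊔ S ^ (m + 2)) : S ^ (n + 1) ≤ P := by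
  suffices h : ∀ d m, n ≤ m → m + d = N → S ^ (m + 1) ≤ P from h (N - n) n le_rfl (by omega)
  intro d
  induction d with
  | zero => intro m _ hm; obtain rfl : m = N := by omega
            rw [hnil]; exact bot_le
  | succ d ih =>
    intro m hm hmd
    exact (hstep m hm).trans (sup_le le_rfl (ih (m + 1) (by omega) (by omega)))

variable [FiniteDimensional k A]

/-- A nilpotent subspace closed under products, with few commutator classes, is commutative. -/
theorem commute_of_small (S C : Submodule k A) (hsq : S * S ≤ S) (hnil : ∃ N, S ^ (N + 1) = ⊥)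
    (hCS : C ≤ S * S) (hmem : ∀ a ∈ S, ∀ b ∈ S, a * b - b * a ∈ C)
    (hspan : C ≤ Submodule.span k {w | ∃ a ∈ S, ∃ b ∈ S, w = a * b - b * a})
    (hdim : finrank k S ≤ finrank k C + 3)
    (hzero : ∀ n : ℕ, S ^ (n + 1) ≤ C → S ^ (n + 1) = ⊥)
    (hsoc : ∀ v ∈ C, (∀ a ∈ S, v * a = 0) → v = 0) :
    ∀ a ∈ S, ∀ b ∈ S, a * b = b * a := by
  classical
  obtain ⟨N, hN⟩ := hnil
  have hC0 : S ^ 2 ≤ C → ∀ a ∈ S, ∀ b ∈ S, a * b = b * a := fun h a ha b hb => by
    have h1 : C ≤ ⊥ := hCS.trans ((pow_two S).ge.trans (hzero 1 h).le)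
    exact sub_eq_zero.1 ((Submodule.mem_bot k).1 (h1 (hmem a ha b hb)))
  by_cases hle : S ^ 2 ≤ C
  · exact hC0 hle
  have hlt : finrank k C < finrank k (S * S : Submodule k A) :=
    Submodule.finrank_lt_finrank_of_lt (lt_of_le_of_ne hCS fun h => hle (by rw [pow_two, h]))
  -- generators modulo the square
  by_cases hone : ∃ z ∈ S, S ≤ Submodule.span k {z} ⊔ S * S
  · obtain ⟨z, hz, hzS⟩ := hone
    have hP : S ≤ Submodule.span k (Set.range fun j : ℕ => z ^ (j + 1)) :=
      (le_span_powers_sup_pow hz hzS N).trans (sup_le le_rfl (by rw [hN]; exact bot_le))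
    intro a ha b hb
    have key : ∀ u ∈ Submodule.span k (Set.range fun j : ℕ => z ^ (j + 1)),
        ∀ v ∈ Submodule.span k (Set.range fun j : ℕ => z ^ (j + 1)), Commute u v := by
      intro u hu v hv
      induction hu, hv using Submodule.span_induction₂ with
      | mem_mem u v hu hv =>
        obtain ⟨i, rfl⟩ := hu
        obtain ⟨j, rfl⟩ := hv
        exact (Commute.refl z).pow_pow _ _
      | zero_left v hv => exact Commute.zero_left _
      | zero_right u hu => exact Commute.zero_right _
      | add_left u v w _ _ _ h1 h2 => exact h1.add_left h2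
      | add_right u v w _ _ _ h1 h2 => exact h1.add_right h2
      | smul_left t u v _ _ h1 => exact h1.smul_left t
      | smul_right t u v _ _ h1 => exact h1.smul_right t
    exact (key a (hP ha) b (hP hb)).eq
  push Not at hone
  obtain ⟨x, hx, hx'⟩ : ∃ x ∈ S, x ∉ S * S := by
    by_contra h
    push Not at h
    exact hone 0 S.zero_mem (le_sup_of_le_right h)
  have hx1 : finrank k (S * S : Submodule k A) <
      finrank k (Submodule.span k {x} ⊔ S * S : Submodule k A) :=
    Submodule.finrank_lt_finrank_of_lt (lt_of_le_of_ne le_sup_right fun he =>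
      hx' (he.ge (Submodule.mem_sup_left (Submodule.mem_span_singleton_self x))))
  obtain ⟨y, hy, hy'⟩ := Set.not_subset.1 (hone x hx)
  have hy1 : finrank k (Submodule.span k {x} ⊔ S * S : Submodule k A) <
      finrank k (Submodule.span k {x} ⊔ Submodule.span k {y} ⊔ S * S : Submodule k A) :=
    Submodule.finrank_lt_finrank_of_lt (lt_of_le_of_ne
      (sup_le_sup_right le_sup_left _) fun he =>
      hy' (he.ge (Submodule.mem_sup_left (Submodule.mem_sup_right
        (Submodule.mem_span_singleton_self y)))))
  have hgen0 : Submodule.span k {x} ⊔ Submodule.span k {y} ⊔ S * S ≤ S :=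
    sup_le (sup_le ((Submodule.span_singleton_le_iff_mem _ _).2 hx)
      ((Submodule.span_singleton_le_iff_mem _ _).2 hy)) hsq
  have hgenS := Submodule.finrank_mono hgen0
  have hgen : S ≤ Submodule.span k {x} ⊔ Submodule.span k {y} ⊔ S * S :=
    (Submodule.eq_of_le_of_finrank_le hgen0 (by omega)).ge
  have hC2 : finrank k (S * S : Submodule k A) = finrank k C + 1 := by omega
  set c := x * y - y * x with hc
  have hcC : c ∈ C := hmem x hx y hy
  have hpw : ∀ n : ℕ, S ^ (n + 2) ≤ S ^ (n + 1) := fun n => by
    rw [show n + 2 = n + 1 + 1 from rfl, pow_succ S (n + 1), pow_succ S n, mul_assoc]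
    exact mul_le_mul' le_rfl hsq
  have h2 : ∀ a ∈ S, ∀ b ∈ S, a * b ∈ S ^ 2 := fun a ha b hb => by
    rw [pow_two]; exact Submodule.mul_mem_mul ha hb
  -- commutators modulo the cube
  have hC3 : C ≤ Submodule.span k {c} ⊔ S ^ 3 := by
    refine hspan.trans (Submodule.span_le.2 ?_)
    rintro _ ⟨a, ha, b, hb, rfl⟩
    have hd : ∀ a ∈ S, ∃ α β : k, ∃ t ∈ S * S, a = α • x + β • y + t := by
      intro a ha
      obtain ⟨u, hu, t, ht, rfl⟩ := Submodule.mem_sup.1 (hgen ha)
      obtain ⟨u₁, hu₁, u₂, hu₂, rfl⟩ := Submodule.mem_sup.1 hu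
      obtain ⟨α, rfl⟩ := Submodule.mem_span_singleton.1 hu₁
      obtain ⟨β, rfl⟩ := Submodule.mem_span_singleton.1 hu₂
      exact ⟨α, β, t, ht, rfl⟩
    obtain ⟨α, β, t, ht, rfl⟩ := hd a ha
    obtain ⟨α', β', t', ht', rfl⟩ := hd b hb
    have hl : ∀ t ∈ S * S, ∀ a ∈ S, t * a ∈ S ^ 3 ∧ a * t ∈ S ^ 3 := fun t ht a ha => by
      rw [← pow_two] at ht
      exact ⟨(pow_succ S 2).ge (Submodule.mul_mem_mul ht ha),
        (pow_succ' S 2).ge (Submodule.mul_mem_mul ha ht)⟩
    have hb' : α' • x + β' • y + t' ∈ S := hb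
    have ha' : α • x + β • y ∈ S := S.add_mem (S.smul_mem _ hx) (S.smul_mem _ hy)
    have e : (α • x + β • y + t) * (α' • x + β' • y + t') -
        (α' • x + β' • y + t') * (α • x + β • y + t) = (α * β' - β * α') • c +
          ((t * (α' • x + β' • y + t') - (α' • x + β' • y + t') * t) +
            ((α • x + β • y) * t' - t' * (α • x + β • y))) := by
      simp only [hc, add_mul, mul_add, smul_mul_assoc, mul_smul_comm, smul_sub, sub_smul, smul_add,
        smul_smul, mul_comm α' α, mul_comm β' β, mul_comm β' α, mul_comm α' β]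
      abel
    rw [SetLike.mem_coe, e]
    exact Submodule.add_mem_sup (Submodule.smul_mem _ _ (Submodule.mem_span_singleton_self c))
      (add_mem (sub_mem (hl t ht _ hb').1 (hl t ht _ hb').2)
        (sub_mem (hl t' ht' _ ha').2 (hl t' ht' _ ha').1))
  by_cases hS3 : S ^ 3 = ⊥
  · intro a ha b hb
    refine sub_eq_zero.1 (hsoc _ (hmem a ha b hb) fun u hu => ?_)
    have h1 : (a * b - b * a) * u ∈ S ^ 3 :=
      (pow_succ S 2).ge (Submodule.mul_mem_mul ((pow_two S).ge (hCS (hmem a ha b hb))) hu)
    rwa [hS3, Submodule.mem_bot] at h1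
  -- the square is one-dimensional modulo the cube
  have hJ2 : S ^ 2 ≤ Submodule.span k {c} ⊔ S ^ 3 := by
    have h3 : ¬ S ^ 3 ≤ C := fun h => hS3 (hzero 2 h)
    obtain ⟨v, hv, hv'⟩ := Set.not_subset.1 h3
    have hlt' : finrank k C < finrank k (C ⊔ S ^ 3 : Submodule k A) :=
      Submodule.finrank_lt_finrank_of_lt (lt_of_le_of_ne le_sup_left fun he =>
        hv' (he.ge (Submodule.mem_sup_right hv)))
    have heq : C ⊔ S ^ 3 = S * S :=
      Submodule.eq_of_le_of_finrank_le (sup_le hCS ((hpw 1).trans (pow_two S).le)) (by omega)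
    rw [pow_two, ← heq]
    exact sup_le hC3 le_sup_right
  have hN2 : 2 ≤ N := by
    by_contra h
    apply hS3
    have h1 : ∀ m, N ≤ m → S ^ (m + 1) ≤ ⊥ := by
      intro m hm
      induction m, hm using Nat.le_induction with
      | base => exact hN.le
      | succ m _ ih => exact (hpw m).trans ih
    exact le_bot_iff.1 (h1 2 (by omega))
  -- some generator has a square outside the cube
  obtain ⟨x', hx'S, hsqx, y', hy'S, hgen', hc'⟩ : ∃ x', x' ∈ S ∧ x' * x' ∉ S ^ 3 ∧
      ∃ y' ∈ S, S ≤ Submodule.span k {x'} ⊔ Submodule.span k {y'} ⊔ S * S ∧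
        x' * y' - y' * x' ∈ (Submodule.span k {c} : Submodule k A) ∧
        c ∈ (Submodule.span k {x' * y' - y' * x'} : Submodule k A) := by
    by_cases hxx : x * x ∈ S ^ 3
    · by_cases hyy : y * y ∈ S ^ 3
      · by_cases hxy : (x + y) * (x + y) ∈ S ^ 3
        · exfalso
          have hsum : x * y + y * x ∈ S ^ 3 := by
            have h1 := sub_mem (sub_mem hxy hxx) hyy
            simp only [add_mul, mul_add] at h1
            convert h1 using 1
            abel
          have hprod : S ^ 2 ≤ Submodule.span k {x * y} ⊔ S ^ 3 := by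
            refine hJ2.trans (sup_le ?_ le_sup_right)
            rw [Submodule.span_singleton_le_iff_mem,
              show c = (x * y + x * y) - (x * y + y * x) by rw [hc]; abel]
            exact sub_mem (Submodule.mem_sup_left (add_mem (Submodule.mem_span_singleton_self _)
              (Submodule.mem_span_singleton_self _))) (Submodule.mem_sup_right hsum)
          have h34 : S ^ 3 ≤ S ^ 4 := by
            calc S ^ 3 = S * S ^ 2 := pow_succ' S 2
              _ ≤ S * (Submodule.span k {x * y} ⊔ S ^ 3) := mul_le_mul' le_rfl hprod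
              _ = S * Submodule.span k {x * y} ⊔ S * S ^ 3 := Submodule.mul_sup _ _ _
              _ ≤ S ^ 4 := by
                refine sup_le ?_ (pow_succ' S 3).ge
                refine (mul_le_mul' hgen le_rfl).trans ?_
                rw [Submodule.sup_mul, Submodule.sup_mul, Submodule.span_mul_span,
                  Submodule.span_mul_span, Set.singleton_mul_singleton, Set.singleton_mul_singleton]
                refine sup_le (sup_le ?_ ?_) ?_
                · rw [Submodule.span_singleton_le_iff_mem, ← mul_assoc]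
                  exact (pow_succ S 3).ge (Submodule.mul_mem_mul hxx hy)
                · rw [Submodule.span_singleton_le_iff_mem,
                    show y * (x * y) = y * (x * y + y * x) - y * y * x by rw [mul_add, mul_assoc]; abel]
                  exact sub_mem ((pow_succ' S 3).ge (Submodule.mul_mem_mul hy hsum))
                    ((pow_succ S 3).ge (Submodule.mul_mem_mul hyy hx))
                · rw [show S ^ 4 = S * S * S ^ 2 by rw [← pow_two, ← pow_add]]
                  exact mul_le_mul' le_rfl ((Submodule.span_singleton_le_iff_mem _ _).2 (h2 x hx y hy))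
          refine hS3 (le_bot_iff.1 (le_of_step (P := ⊥) hN hN2 fun m hm => ?_))
          rw [bot_sup_eq]
          induction m, hm using Nat.le_induction with
          | base => exact h34
          | succ m _ ih => rw [pow_succ S (m + 1), pow_succ S (m + 2)]; exact mul_le_mul' ih le_rfl
        · refine ⟨x + y, S.add_mem hx hy, hxy, y, hy, ?_, ?_, ?_⟩
          · refine hgen.trans (sup_le_sup_right (sup_le ?_ le_sup_right) _)
            rw [Submodule.span_singleton_le_iff_mem]
            have e : (x + y) - y ∈ Submodule.span k {x + y} ⊔ Submodule.span k {y} := sub_mem (Submodule.mem_sup_left (Submodule.mem_span_singleton_self _))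
              (Submodule.mem_sup_right (Submodule.mem_span_singleton_self _))
            rwa [add_sub_cancel_right] at e
          all_goals
            rw [show (x + y) * y - y * (x + y) = c by rw [hc, add_mul, mul_add]; abel]
            exact Submodule.mem_span_singleton_self c
      · refine ⟨y, hy, hyy, x, hx, hgen.trans (by rw [sup_comm (Submodule.span k {x})]), ?_, ?_⟩
        · rw [show y * x - x * y = -c by rw [hc]; abel]
          exact neg_mem (Submodule.mem_span_singleton_self c)
        · rw [show y * x - x * y = -c by rw [hc]; abel]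
          exact Submodule.mem_span_singleton.2 ⟨-1, by simp⟩
    · exact ⟨x, hx, hxx, y, hy, hgen, Submodule.mem_span_singleton_self c,
        Submodule.mem_span_singleton_self c⟩
  set c' := x' * y' - y' * x' with hcdef
  have hcC' : c' ∈ C := hmem x' hx'S y' hy'S
  -- `c'` is proportional to the square of `x'` modulo the cube, and conversely
  have hJ2' : S ^ 2 ≤ Submodule.span k {c'} ⊔ S ^ 3 :=
    hJ2.trans (sup_le_sup_right ((Submodule.span_singleton_le_iff_mem _ _).2 hc'.2) _)
  obtain ⟨γ, t, ht, hxγ⟩ : ∃ γ : k, ∃ t ∈ S ^ 3, x' * x' = γ • c' + t := by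
    obtain ⟨u, hu, t, ht, he⟩ := Submodule.mem_sup.1 (hJ2' (h2 x' hx'S x' hx'S))
    obtain ⟨γ, rfl⟩ := Submodule.mem_span_singleton.1 hu
    exact ⟨γ, t, ht, he.symm⟩
  have hγ : γ ≠ 0 := fun h => hsqx (by rw [hxγ, h, zero_smul, zero_add]; exact ht)
  have hJx : S ^ 2 ≤ Submodule.span k {x' * x'} ⊔ S ^ 3 := by
    refine hJ2'.trans (sup_le ?_ le_sup_right)
    rw [Submodule.span_singleton_le_iff_mem, show c' = γ⁻¹ • (x' * x') - γ⁻¹ • t by
      rw [hxγ, smul_add, smul_smul, inv_mul_cancel₀ hγ, one_smul, add_sub_cancel_right]]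
    exact sub_mem (Submodule.mem_sup_left (Submodule.smul_mem _ _ (Submodule.mem_span_singleton_self _)))
      (Submodule.mem_sup_right (Submodule.smul_mem _ _ ht))
  have hpowx : ∀ n : ℕ, 1 ≤ n → S ^ (n + 1) ≤ Submodule.span k {x' ^ (n + 1)} ⊔ S ^ (n + 2) := by
    intro n hn
    induction n, hn using Nat.le_induction with
    | base =>
      show S ^ 2 ≤ Submodule.span k {x' ^ 2} ⊔ S ^ 3
      rw [pow_two x']
      exact hJx
    | succ n hn ih =>
      rw [pow_succ' S (n + 1)]
      refine (mul_le_mul' le_rfl ih).trans ?_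
      rw [Submodule.mul_sup, ← pow_succ' S (n + 2)]
      refine sup_le ?_ le_sup_right
      refine (mul_le_mul' hgen' le_rfl).trans ?_
      rw [Submodule.sup_mul, Submodule.sup_mul, Submodule.span_mul_span, Submodule.span_mul_span,
        Set.singleton_mul_singleton, Set.singleton_mul_singleton, ← pow_succ']
      refine sup_le (sup_le le_sup_left ?_) ?_
      · rw [Submodule.span_singleton_le_iff_mem, pow_succ' x' n, ← mul_assoc]
        have hxn : x' ^ n ∈ S ^ n := Submodule.pow_mem_pow S hx'S n
        obtain ⟨u, hu, w, hw, he⟩ := Submodule.mem_sup.1 (hJx (h2 y' hy'S x' hx'S))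
        obtain ⟨δ, rfl⟩ := Submodule.mem_span_singleton.1 hu
        rw [← he, add_mul, smul_mul_assoc]
        refine Submodule.add_mem_sup (Submodule.smul_mem _ _ (Submodule.mem_span_singleton.2
          ⟨1, by rw [one_smul, pow_succ', pow_succ', mul_assoc]⟩)) ?_
        rw [show n + 1 + 2 = 3 + n by omega, pow_add S 3 n]
        exact Submodule.mul_mem_mul hw hxn
      · refine le_sup_of_le_right ?_
        rw [show n + 1 + 2 = 2 + (n + 1) by omega, pow_add S 2 (n + 1), pow_two S]
        exact mul_le_mul' le_rfl ((Submodule.span_singleton_le_iff_mem _ _).2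
          (Submodule.pow_mem_pow S hx'S (n + 1)))
  -- the ideal spanned by the multiples of `c'` consists of commutators
  set I := Submodule.span k (Set.range fun j : ℕ => x' ^ j * c') with hI
  have hxS : ∀ j : ℕ, x' ^ (j + 1) ∈ S := by
    intro j
    induction j with
    | zero => simpa using hx'S
    | succ j ih => rw [pow_succ]; exact hsq (Submodule.mul_mem_mul ih hx'S)
  have hIC : I ≤ C := by
    rw [hI, Submodule.span_le]
    rintro _ ⟨j, rfl⟩
    show x' ^ j * c' ∈ C
    have hjy : x' ^ j * y' ∈ S := by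
      cases j with
      | zero => simpa using hy'S
      | succ j => exact hsq (Submodule.mul_mem_mul (hxS j) hy'S)
    have e : x' ^ j * c' = x' * (x' ^ j * y') - x' ^ j * y' * x' := by
      rw [hcdef, mul_sub, ← mul_assoc, ← mul_assoc, ← mul_assoc, ← pow_succ, ← pow_succ']
    rw [e]
    exact hmem x' hx'S _ hjy
  have hstep : ∀ n, 1 ≤ n → S ^ (n + 1) ≤ I ⊔ S ^ (n + 2) := by
    intro n hn
    refine (hpowx n hn).trans (sup_le ?_ le_sup_right)
    rw [Submodule.span_singleton_le_iff_mem]
    obtain ⟨m, rfl⟩ : ∃ m, n = m + 1 := ⟨n - 1, by omega⟩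
    rw [pow_succ x' (m + 1), pow_succ x' m, mul_assoc, hxγ, mul_add, mul_smul_comm]
    refine Submodule.add_mem_sup (Submodule.smul_mem _ _ (Submodule.subset_span ⟨m, rfl⟩)) ?_
    rw [show m + 1 + 2 = m + 3 from rfl, pow_add S m 3]
    exact Submodule.mul_mem_mul (Submodule.pow_mem_pow S hx'S m) ht
  exact absurd ((le_of_step hN (by omega : 1 ≤ N) hstep).trans hIC) hle

variable [IsAlgClosed k] {τ : A →ₗ[k] k} {ε : A}

/-- **Brandt's dimension bound**: with a single simple module and a centre of dimension at most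
`κ ≤ 4`, the part of `ε` has dimension at most `κ` times a square, and every
space on which it acts with `ε` as identity has dimension a multiple of the root of that square. -/
theorem Setup.exists_bound_of (h : Setup τ ε) {κ : ℕ} (hκ : κ ≤ 4)
    (hZ : finrank k (centerPart (k := k) ε) ≤ κ) (hone : OneSimple k ε) :
    ∃ N : ℕ, 0 < N ∧ finrank k (LinearMap.range (LinearMap.mulLeft k ε)) ≤ κ * N ^ 2 ∧
      ∀ (L : Type*) [Field L] [Algebra k L] (m : ℕ) (Φ : A →ₐ[k] Matrix (Fin m) (Fin m) L),
        Φ ε = 1 → N ∣ m := by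
  classical
  obtain ⟨N, e, x, y, K, r, hN, hKnil, hee, hεe, hxe, hey, hεx, hyε, hyx, hyx0, hsum, hr⟩ :=
    h.exists_units hone
  refine ⟨N, hN, ?_, fun L _ _ m Φ hΦ => ?_⟩
  · -- the corner and the radical of the corner
    let c : A →ₗ[k] A := (LinearMap.mulLeft k e).comp (LinearMap.mulRight k e)
    have hc : ∀ a, c a = e * a * e := fun a => (mul_assoc e a e).symm
    set S := LinearMap.range c with hSdef
    have hS : ∀ a, a ∈ S ↔ e * a * e = a := fun a => by
      refine ⟨?_, fun ha => ⟨a, (hc a).trans ha⟩⟩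
      rintro ⟨b, rfl⟩
      simp only [hc, ← mul_assoc, hee]
      simp only [mul_assoc, hee]
    set S₀ := S ⊓ K.restrictScalars k with hS₀def
    have hS₀ : ∀ a ∈ S, a - r a • e ∈ S₀ := fun a ha => by
      refine ⟨S.sub_mem ha (S.smul_mem _ ((hS e).2 (by simp only [hee]))), ?_⟩
      have h1 := hr a
      rwa [(hS a).1 ha] at h1
    have hmul : ∀ a ∈ S, ∀ b ∈ S, a * b ∈ S := fun a ha b hb => (hS _).2 (by
      have h1 := (hS a).1 ha
      have h2 := (hS b).1 hb
      have h3 : e * a = a := by rw [← h1, ← mul_assoc, ← mul_assoc, hee]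
      have h4 : b * e = b := by rw [← h2, mul_assoc, hee]
      rw [← mul_assoc, h3, mul_assoc, h4])
    have hSS : S₀ * S₀ ≤ S₀ := Submodule.mul_le.2 fun a ha b hb =>
      ⟨hmul a ha.1 b hb.1, K.mul_mem_left a hb.2⟩
    have hS₀S : S₀ ≤ S := inf_le_left
    have hS₀S₀ : S₀ * S₀ ≤ S := hSS.trans hS₀S
    have hspan : S ≤ Submodule.span k {e} ⊔ S₀ := fun a ha => by
      rw [← add_sub_cancel (r a • e) a]
      exact Submodule.add_mem_sup (Submodule.smul_mem _ _ (Submodule.mem_span_singleton_self e))
        (hS₀ a ha)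
    -- class functions on the corner extend
    have hext : ∀ T : Submodule k (A →ₗ[k] k),
        (∀ g ∈ T, (∀ a, g (e * a * e) = g a) ∧ ∀ a ∈ S, ∀ b ∈ S, g (a * b) = g (b * a)) →
        finrank k T ≤ κ := by
      intro T hT
      let ext : (A →ₗ[k] k) →ₗ[k] (A →ₗ[k] k) :=
        { toFun := fun g => ∑ i, g.comp ((LinearMap.mulLeft k (y i)).comp (LinearMap.mulRight k (x i)))
          map_add' := fun g g' => by simp [LinearMap.add_comp, Finset.sum_add_distrib]
          map_smul' := fun t g => by simp [LinearMap.smul_comp, Finset.smul_sum] }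
      have hv : ∀ g a, ext g a = ∑ i, g (y i * (a * x i)) := fun g a => by
        simp [ext, LinearMap.sum_apply]
      have hin : ∀ i a j, y i * (a * x j) ∈ S := fun i a j => (hS _).2 (by
        rw [← mul_assoc e, hey, mul_assoc, mul_assoc, hxe])
      refine le_trans ?_ ((h.finrank_le (T.map ext) ?_).trans hZ)
      · refine LinearMap.finrank_le_finrank_of_injective (f := (ext.domRestrict T).codRestrict (T.map ext)
          fun g => ⟨g.1, g.2, rfl⟩) ?_
        rintro ⟨g, hg⟩ ⟨g', hg'⟩ hgg
        have h1 : ext (g - g') = 0 := by rw [map_sub, sub_eq_zero]; exact congrArg Subtype.val hgg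
        have hd : g - g' ∈ T := T.sub_mem hg hg'
        refine Subtype.ext (sub_eq_zero.1 (LinearMap.ext fun a => ?_))
        have h2 := LinearMap.congr_fun h1 (e * a * e)
        rw [hv, LinearMap.zero_apply] at h2
        rw [← (hT _ hd).1 a, LinearMap.zero_apply]
        refine Eq.trans (Eq.symm ?_) h2
        have hey' : ∀ i, y i * e ∈ S := fun i => (hS _).2 (by
          rw [← mul_assoc e, hey, mul_assoc, hee])
        have hex' : ∀ i, e * (a * e * x i) ∈ S := fun i => (hS _).2 (by
          rw [← mul_assoc e e, hee, mul_assoc, mul_assoc, hxe])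
        calc ∑ i, (g - g') (y i * (e * a * e * x i))
            = ∑ i, (g - g') (y i * e * (e * (a * e * x i))) := Finset.sum_congr rfl fun i _ => by
              congr 1
              simp only [mul_assoc]
              rw [← mul_assoc e e, hee]
          _ = ∑ i, (g - g') (e * (a * e * x i) * (y i * e)) :=
              Finset.sum_congr rfl fun i _ => (hT _ hd).2 _ (hey' i) _ (hex' i)
          _ = (g - g') (e * (a * (e * (ε * e)))) := by
              rw [← map_sum, ← hsum]
              simp only [Finset.sum_mul, Finset.mul_sum, mul_assoc]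
          _ = (g - g') (e * a * e) := by rw [hεe, hee, mul_assoc]
      · rintro _ ⟨g, hg, rfl⟩
        refine ⟨fun a b => ?_, fun a => ?_⟩
        · have hexp : ∀ a b : A, ∀ i, g (y i * (a * b * x i)) =
              ∑ j, g ((y i * (a * x j)) * (y j * (b * x i))) := fun a b i => by
            rw [← map_sum]
            refine congrArg g ?_
            calc y i * (a * b * x i) = y i * (a * (b * x i)) := by rw [mul_assoc a]
              _ = y i * ε * (a * (b * x i)) := by rw [hyε]
              _ = y i * (a * (ε * (b * x i))) := by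
                  rw [mul_assoc (y i), ← mul_assoc ε, h.central a, mul_assoc a]
              _ = ∑ j, y i * (a * x j) * (y j * (b * x i)) := by
                  rw [← hsum]
                  simp only [Finset.sum_mul, Finset.mul_sum, mul_assoc]
          rw [hv, hv, Finset.sum_congr rfl fun i _ => hexp a b i,
            Finset.sum_congr rfl fun i _ => hexp b a i, Finset.sum_comm]
          exact Finset.sum_congr rfl fun i _ => Finset.sum_congr rfl fun j _ =>
            (hT g hg).2 _ (hin j a i) _ (hin i b j)
        · rw [hv, hv]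
          refine Finset.sum_congr rfl fun i _ => congrArg g ?_
          rw [mul_assoc ε, ← mul_assoc (y i) ε, hyε]
    -- the radical is spanned by one element modulo its square
    have hce : ∀ a, c (c a) = c a := fun a => by
      rw [hc (c a)]
      exact (hS _).1 ⟨a, rfl⟩
    have hcker : ∀ g ∈ (LinearMap.ker c).dualAnnihilator, ∀ a, g (e * a * e) = g a := fun g hg a => by
      have h1 := (Submodule.mem_dualAnnihilator g).1 hg (c a - a)
        (by rw [LinearMap.mem_ker, map_sub, hce, sub_self])
      rwa [map_sub, sub_eq_zero, hc] at h1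
    have hSe : ∀ a ∈ S, e * a = a ∧ a * e = a := fun a ha => by
      have h1 := (hS a).1 ha
      constructor
      · rw [← h1, ← mul_assoc, ← mul_assoc, hee]
      · rw [← h1, mul_assoc, hee]
    have hcount : ∀ W : Submodule k A, LinearMap.ker c ≤ W →
        (∀ g ∈ W.dualAnnihilator, ∀ a ∈ S, ∀ b ∈ S, g (a * b) = g (b * a)) →
        finrank k A ≤ finrank k W + κ := by
      intro W hW hg
      have h1 := hext W.dualAnnihilator fun g hgW =>
        ⟨hcker g (Submodule.dualAnnihilator_anti hW hgW), hg g hgW⟩
      calc finrank k A = finrank k W + finrank k W.dualAnnihilator := (finrank_dualAnnihilator W).symm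
        _ ≤ finrank k W + κ := Nat.add_le_add_left h1 _
    have hrk : finrank k S + finrank k (LinearMap.ker c) = finrank k A :=
      LinearMap.finrank_range_add_finrank_ker c
    obtain ⟨n, hn⟩ := hKnil
    have hpow : ∀ j : ℕ, S₀ ^ (j + 1) ≤ (K ^ (j + 1)).restrictScalars k := by
      intro j
      induction j with
      | zero => intro a ha; rw [pow_one] at ha; rw [Submodule.restrictScalars_mem, zero_add, Submodule.pow_one]; exact ha.2
      | succ j ih =>
        rw [pow_succ S₀ (j + 1), Submodule.mul_le]
        intro a ha b hb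
        rw [Submodule.restrictScalars_mem, Submodule.pow_succ]
        exact Ideal.mul_mem_mul (ih ha) hb.2
    have hnilS : S₀ ^ (n + 1) = ⊥ := by
      refine le_bot_iff.1 ((hpow n).trans fun a ha => ?_)
      have h1 : K ^ (n + 1) = ⊥ := by rw [Submodule.pow_succ, hn]; exact Submodule.bot_mul _
      rw [Submodule.restrictScalars_mem, h1] at ha
      rw [(Submodule.mem_bot A).1 ha]
      exact Submodule.zero_mem _
    set C := Submodule.span k {w | ∃ a ∈ S₀, ∃ b ∈ S₀, w = a * b - b * a} with hCdef
    have hcom : ∀ a ∈ S, ∀ b ∈ S, (a - r a • e) * (b - r b • e) - (b - r b • e) * (a - r a • e) =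
        a * b - b * a := fun a ha b hb => by
      simp only [sub_mul, mul_sub, smul_mul_assoc, mul_smul_comm, (hSe a ha).1, (hSe a ha).2,
        (hSe b hb).1, (hSe b hb).2, hee, smul_sub]
      rw [smul_comm (r b) (r a)]
      abel
    have hCS : C ≤ S₀ * S₀ := Submodule.span_le.2 (by
      rintro _ ⟨a, ha, b, hb, rfl⟩
      exact sub_mem (Submodule.mul_mem_mul ha hb) (Submodule.mul_mem_mul hb ha))
    have hτC : ∀ w ∈ C, τ w = 0 := by
      intro w hw
      induction hw using Submodule.span_induction with
      | mem w hw =>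
        obtain ⟨a, -, b, -, rfl⟩ := hw
        rw [map_sub, h.sym a b, sub_self]
      | zero => simp
      | add u v _ _ h1 h2 => simp [h1, h2]
      | smul t u _ h1 => simp [h1]
    have hnd : ∀ v ∈ S, (∀ b ∈ S, τ (v * b) = 0) → v = 0 := fun v hv hb => h.nondeg v fun b => by
      have h1 : τ (v * b) = τ (v * (e * b * e)) := by
        conv_lhs => rw [← (hS v).1 hv, mul_assoc, mul_assoc, h.sym e]
        simp only [mul_assoc]
      rw [h1]
      exact hb _ ((hS _).2 (by simp only [← mul_assoc, hee]; simp only [mul_assoc, hee]))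
    have hsplit : ∀ v ∈ S, ∀ b ∈ S, v * b = r b • v + v * (b - r b • e) := fun v hv b _ => by
      rw [mul_sub, mul_smul_comm, (hSe v hv).2, add_sub_cancel]
    have hzero : ∀ m : ℕ, S₀ ^ (m + 1) ≤ C → S₀ ^ (m + 1) = ⊥ := by
      intro m hm
      refine le_bot_iff.1 fun v hv => (Submodule.mem_bot k).2 ?_
      have hvS : v ∈ S := hS₀S₀ (hCS (hm hv))
      refine hnd v hvS fun b hb => hτC _ ?_
      rw [hsplit v hvS b hb]
      refine C.add_mem (C.smul_mem _ (hm hv)) (hm ?_)
      have h1 : v * (b - r b • e) ∈ S₀ ^ (m + 1) * S₀ := Submodule.mul_mem_mul hv (hS₀ b hb)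
      cases m with
      | zero =>
        rw [zero_add, pow_one] at h1 ⊢
        exact hSS h1
      | succ m =>
        refine (?_ : S₀ ^ (m + 2) * S₀ ≤ S₀ ^ (m + 2)) h1
        conv_lhs => rw [pow_succ S₀ (m + 1), mul_assoc]
        conv_rhs => rw [pow_succ S₀ (m + 1)]
        exact mul_le_mul' le_rfl hSS
    have hsoc : ∀ v ∈ C, (∀ a ∈ S₀, v * a = 0) → v = 0 := fun v hv hva => by
      have hvS : v ∈ S := hS₀S₀ (hCS hv)
      refine hnd v hvS fun b hb => ?_
      rw [hsplit v hvS b hb, hva _ (hS₀ b hb), add_zero, map_smul, hτC v hv, smul_zero]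
    have hS₀C : finrank k S₀ ≤ finrank k C + 3 := by
      have h1 : finrank k A ≤ finrank k (C ⊔ LinearMap.ker c : Submodule k A) + κ := by
        refine hcount _ le_sup_right fun g hg a ha b hb => ?_
        rw [← sub_eq_zero, ← map_sub, ← hcom a ha b hb]
        exact (Submodule.mem_dualAnnihilator g).1 hg _ (Submodule.mem_sup_left
          (Submodule.subset_span ⟨_, hS₀ a ha, _, hS₀ b hb, rfl⟩))
      have h2 := Submodule.finrank_add_le_finrank_add_finrank C (LinearMap.ker c)
      by_cases he : e ∈ S₀
      · have h0 : e = 0 := IsIdempotentElem.eq_zero_of_isNilpotent hee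
          ⟨n, by simpa [hn] using Ideal.pow_mem_pow he.2 n⟩
        have h3 : S₀ ≤ ⊥ := fun a ha => by
          have := (hSe a (hS₀S ha)).1
          rw [h0, zero_mul] at this
          rw [← this]
          exact Submodule.zero_mem _
        rw [le_bot_iff.1 h3, finrank_bot]
        exact Nat.zero_le _
      have h3 : finrank k S₀ < finrank k S :=
        Submodule.finrank_lt_finrank_of_lt (lt_of_le_of_ne hS₀S fun heq =>
          he (heq.ge ((hS e).2 (by simp only [hee]))))
      omega
    have hcomm₀ := commute_of_small S₀ C hSS ⟨n, hnilS⟩ hCS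
      (fun a ha b hb => Submodule.subset_span ⟨a, ha, b, hb, rfl⟩) le_rfl hS₀C hzero hsoc
    have hcomm : ∀ a ∈ S, ∀ b ∈ S, a * b = b * a := fun a ha b hb => by
      rw [← sub_eq_zero, ← hcom a ha b hb, hcomm₀ _ (hS₀ a ha) _ (hS₀ b hb), sub_self]
    have hdim : finrank k S ≤ κ := by
      have h1 := hcount _ le_rfl fun g _ a ha b hb => by rw [hcomm a ha b hb]
      omega
    -- the part of `ε` through the corner
    let F : (Fin N × Fin N → S) →ₗ[k] A :=
      ∑ q : Fin N × Fin N, ((LinearMap.mulLeft k (x q.1)).comp (LinearMap.mulRight k (y q.2))).comp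
        (S.subtype.comp (LinearMap.proj q))
    have hF : LinearMap.range (LinearMap.mulLeft k ε) ≤ LinearMap.range F := by
      rintro _ ⟨a, rfl⟩
      refine ⟨fun q => ⟨y q.1 * a * x q.2, (hS _).2 (by
        rw [← mul_assoc e, ← mul_assoc e, hey, mul_assoc _ (x q.2), hxe])⟩, ?_⟩
      simp only [F, LinearMap.sum_apply, LinearMap.comp_apply, LinearMap.proj_apply,
        Submodule.subtype_apply, LinearMap.mulLeft_apply, LinearMap.mulRight_apply]
      have h2 : ε * a = ε * a * ε := by rw [mul_assoc, ← h.central, ← mul_assoc, h.idem]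
      rw [h2, ← hsum, Fintype.sum_prod_type, Finset.sum_mul, Finset.mul_sum, Finset.sum_comm]
      simp only [Finset.mul_sum, Finset.sum_mul, mul_assoc]
    refine (Submodule.finrank_mono hF).trans ((LinearMap.finrank_range_le F).trans ?_)
    rw [Module.finrank_pi_fintype, Finset.sum_const, Finset.card_univ, Fintype.card_prod,
      Fintype.card_fin, smul_eq_mul, sq]
    calc N * N * finrank k S ≤ N * N * κ := Nat.mul_le_mul_left _ hdim
      _ = κ * (N * N) := mul_comm _ _
  · -- spaces on which `ε` is the identity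
    let ι : A →ₐ[k] Module.End L (Fin m → L) := (Matrix.toLinAlgEquiv' (R := L)).toAlgHom.restrictScalars k |>.comp Φ
    have hι1 : ι ε = 1 := by simp [ι, hΦ]
    let W := LinearMap.range (ι e)
    let P : Fin N → (Fin m → L) →ₗ[L] W := fun i =>
      (ι (y i)).codRestrict W fun v => ⟨ι (y i) v, by
        show (ι e * ι (y i)) v = _
        rw [← map_mul, hey]⟩
    have hP : ∀ i v, (P i v : Fin m → L) = ι (y i) v := fun i v => rfl
    let Q : (Fin N → W) →ₗ[L] (Fin m → L) :=
      ∑ i, ((ι (x i)).comp W.subtype).comp (LinearMap.proj i)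
    have hQ : ∀ w : Fin N → W, Q w = ∑ i, ι (x i) (w i : Fin m → L) := fun w => by
      simp [Q, LinearMap.sum_apply]
    have hcomp : ∀ a b v, ι a (ι b v) = ι (a * b) v := fun a b v => by rw [map_mul]; rfl
    let eqv : (Fin m → L) ≃ₗ[L] (Fin N → W) := LinearEquiv.ofLinearMap (LinearMap.pi P) Q
      (by
        refine LinearMap.ext fun w => funext fun j => Subtype.ext ?_
        show (P j (Q w) : Fin m → L) = w j
        rw [hP, hQ, map_sum, Finset.sum_eq_single j]
        · obtain ⟨v, hv⟩ := (w j).2
          rw [hcomp, hyx, ← hv, hcomp, hee]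
        · intro i _ hij
          rw [hcomp, hyx0 j i hij.symm, map_zero, LinearMap.zero_apply]
        · exact fun hh => absurd (Finset.mem_univ j) hh)
      (by
        refine LinearMap.ext fun v => ?_
        show Q (fun i => P i v) = v
        rw [hQ]
        simp only [hP, hcomp]
        rw [← LinearMap.sum_apply, ← map_sum, hsum, hι1]
        rfl)
    have h1 := eqv.finrank_eq
    rw [Module.finrank_fin_fun, Module.finrank_pi_fintype, Finset.sum_const, Finset.card_univ,
      Fintype.card_fin, smul_eq_mul] at h1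
    exact ⟨_, h1⟩

/-- The case of a centre of dimension two. -/
theorem Setup.exists_bound (h : Setup τ ε) (hZ : finrank k (centerPart (k := k) ε) ≤ 2) :
    ∃ N : ℕ, 0 < N ∧ finrank k (LinearMap.range (LinearMap.mulLeft k ε)) ≤ 2 * N ^ 2 ∧
      ∀ (L : Type*) [Field L] [Algebra k L] (m : ℕ) (Φ : A →ₐ[k] Matrix (Fin m) (Fin m) L),
        Φ ε = 1 → N ∣ m :=
  h.exists_bound_of (by norm_num) hZ (Or.inl hZ)

end CfsgLib.Brandt
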