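import Cfsg.Agent.Lib.Blocks.Osima
import Cfsg.Agent.Lib.BlockReg.Height
import Cfsg.Agent.Lib.Blk83.LatticeFix
import Cfsg.Agent.Lib.Blocks.Brandt.SmallCentre

/-!
# Reduction of a block algebra: dimensions and lattices
-/

set_option autoImplicit false
set_option maxHeartbeats 1000000
set_option synthInstance.maxHeartbeats 400000

namespace CfsgLib.Brandt

open Cfsg CfsgLib.Blocks CfsgLib.Char Module
open scoped ComplexConjugate Classical

universe u

variable {G : Type u} [Group G] [Finite G] {M : Ideal AlgInt} [M.IsMaximal]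


noncomputable local instance : Field (ResField M) := Ideal.Quotient.field M

/-- The residue field of the algebraic integers is algebraically closed. -/
theorem isAlgClosed_resField : IsAlgClosed (ResField M) := by
  refine IsAlgClosed.of_exists_root _ fun q hq hirr => ?_
  obtain ⟨Q, hQq, hQd, hQm⟩ := Polynomial.lifts_and_degree_eq_and_monic
    (f := Ideal.Quotient.mk M) (Polynomial.lifts_iff_coeff_lifts q |>.2 fun n =>
      Ideal.Quotient.mk_surjective _) hq
  obtain ⟨z, hz⟩ := IsAlgClosed.exists_aeval_eq_zero ℂ Q (by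
    rw [hQd]; exact (Polynomial.degree_pos_of_irreducible hirr).ne')
  have hint : IsIntegral AlgInt z := ⟨Q, hQm, by rwa [← Polynomial.aeval_def]⟩
  have : Algebra.IsIntegral ℤ AlgInt := inferInstance
  let zi : AlgInt := ⟨z, isIntegral_trans (R := ℤ) z hint⟩
  have h0 : Q.eval zi = 0 := Subtype.val_injective (by
    rw [ZeroMemClass.coe_zero, ← hz, show z = algebraMap AlgInt ℂ zi from rfl,
      Polynomial.aeval_algebraMap_apply_eq_algebraMap_eval]
    rfl)
  exact ⟨Ideal.Quotient.mk M zi, by rw [← hQq, Polynomial.eval_map, Polynomial.eval₂_hom, h0, map_zero]⟩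

/-- Reduction of vectors with local integral entries does not raise the rank. -/
theorem finrank_span_red_le {α : Type*} [Finite α] (S : Set (α → locRing M)) :
    finrank (ResField M) (Submodule.span (ResField M) ((fun v a => red M (v a)) '' S)) ≤
      finrank ℂ (Submodule.span ℂ ((fun v a => ((v a : locRing M) : ℂ)) '' S)) := by
  set k := ResField M
  obtain ⟨T, hTS, hTspan, hTli⟩ :=
    exists_linearIndependent k ((fun v a => red M (v a)) '' S : Set (α → k))
  have : Finite T := hTli.finite
  have := Fintype.ofFinite T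
  choose v hvS hv using fun t : T => hTS t.2
  rw [← hTspan]
  have hcard : finrank k (Submodule.span k T) = Fintype.card T := by
    conv_lhs => rw [← Subtype.range_coe (s := T)]
    exact finrank_span_eq_card hTli
  rw [hcard]
  -- a left inverse over the residue field, lifted
  obtain ⟨L, hL⟩ := (Fintype.linearCombination k fun t : T => (t : α → k)).exists_leftInverse_of_injective
    (LinearMap.ker_eq_bot.2 hTli.fintypeLinearCombination_injective)
  have := Fintype.ofFinite α
  choose L' hL' using fun (t : T) (a : α) => red_surjective (M := M) (LinearMap.toMatrix' L t a)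
  let D : Matrix T T (locRing M) := fun t s => ∑ a, L' t a * v s a
  have hD : D.map (red M) = 1 := by
    funext t s
    have h1 := congrFun (LinearMap.congr_fun hL (Pi.single s 1)) t
    rw [LinearMap.comp_apply, Fintype.linearCombination_apply_single, one_smul,
      LinearMap.id_apply] at h1
    rw [Matrix.map_apply, map_sum, Matrix.one_apply]
    rw [show (if t = s then (1 : k) else 0) = (Pi.single s 1 : T → k) t by
      rw [Pi.single_apply], ← h1]
    conv_rhs => rw [← Matrix.toLin'_toMatrix' L, Matrix.toLin'_apply]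
    refine Finset.sum_congr rfl fun a _ => ?_
    rw [map_mul, hL', ← congrFun (hv s) a]
  have hdet : (D.map ((locRing M).subtype)).det ≠ 0 := by
    intro h0
    rw [show D.map ((locRing M).subtype) = ((locRing M).subtype).mapMatrix D from rfl,
      ← RingHom.map_det] at h0
    have h1 : D.det = 0 := Subtype.val_injective h0
    have h2 := RingHom.map_det (red M) D
    rw [h1, map_zero, RingHom.mapMatrix_apply, hD, Matrix.det_one] at h2
    exact zero_ne_one h2
  have hli : LinearIndependent ℂ (fun t : T => fun a => ((v t a : locRing M) : ℂ)) := by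
    refine LinearIndependent.of_comp
      (Matrix.toLin' (fun (t : T) (a : α) => ((L' t a : locRing M) : ℂ))) ?_
    have h1 := Matrix.linearIndependent_cols_of_isUnit
      (Matrix.isUnit_iff_isUnit_det _ |>.2 (isUnit_iff_ne_zero.2 hdet))
    have heq : (Matrix.toLin' fun (t : T) (a : α) => ((L' t a : locRing M) : ℂ)) ∘
        (fun (t : T) (a : α) => ((v t a : locRing M) : ℂ)) = (D.map (locRing M).subtype).col := by
      funext s t
      show (Matrix.toLin' (Matrix.of fun (t : T) (a : α) => ((L' t a : locRing M) : ℂ)))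
          (fun a => ((v s a : locRing M) : ℂ)) t = (locRing M).subtype (D t s)
      rw [Matrix.toLin'_apply, map_sum]
      exact Finset.sum_congr rfl fun a _ => rfl
    rw [heq]
    exact h1
  rw [← finrank_span_eq_card hli]
  refine Submodule.finrank_mono (Submodule.span_mono ?_)
  rintro _ ⟨t, rfl⟩
  exact ⟨v t, hvS t, rfl⟩

/-- The same for elements of the group ring. -/
theorem finrank_span_map_red_le (S : Set (MonoidAlgebra (locRing M) G)) :
    finrank (ResField M) (Submodule.span (ResField M) (MonoidAlgebra.mapRingHom G (red M) '' S)) ≤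
      finrank ℂ (Submodule.span ℂ (MonoidAlgebra.mapRingHom G (locRing M).subtype '' S)) := by
  have := Fintype.ofFinite G
  have h := finrank_span_red_le (α := G) ((fun a g => a.coeff g) '' S)
  let ek : MonoidAlgebra (ResField M) G ≃ₗ[ResField M] (G → ResField M) :=
    (MonoidAlgebra.coeffLinearEquiv _).trans (Finsupp.linearEquivFunOnFinite _ _ G)
  let eC : MonoidAlgebra ℂ G ≃ₗ[ℂ] (G → ℂ) :=
    (MonoidAlgebra.coeffLinearEquiv _).trans (Finsupp.linearEquivFunOnFinite _ _ G)
  rw [← LinearEquiv.finrank_map_eq ek, ← LinearEquiv.finrank_map_eq eC, Submodule.map_span,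
    Submodule.map_span, Set.image_image, Set.image_image]
  rw [Set.image_image, Set.image_image] at h
  exact h

variable {B : Set (IrrCharacter G)}

/-- The block idempotent over the complex numbers is the image of the local one. -/
theorem map_blockIdemR (hB : IsPBlock M B) :
    MonoidAlgebra.mapRingHom G (locRing M).subtype (blockIdemR hB : MonoidAlgebra (locRing M) G) =
      (idemC B : MonoidAlgebra ℂ G) := by
  ext g
  rw [coeff_map, coe_idemC, coeff_ofFun]
  exact coe_coeff_blockIdemR hB g

theorem map_red_blockIdemR (hB : IsPBlock M B) :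
    MonoidAlgebra.mapRingHom G (red M) (blockIdemR hB : MonoidAlgebra (locRing M) G) =
      (blockIdem hB : MonoidAlgebra (ResField M) G) := rfl

/-- The centre of a block algebra has dimension at most the number of characters. -/
theorem finrank_centerPart_le (hB : IsPBlock M B) :
    finrank (ResField M)
      (centerPart (k := ResField M) (blockIdem hB : MonoidAlgebra (ResField M) G)) ≤ Nat.card B := by
  have := Fintype.ofFinite (ConjClasses G)
  set k := ResField M
  let S : Set (MonoidAlgebra (locRing M) G) :=
    Set.range fun g : G => (blockIdemR hB : MonoidAlgebra (locRing M) G) * classSum (locRing M) g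
  refine le_trans (Submodule.finrank_mono (?_ : _ ≤
    Submodule.span k (MonoidAlgebra.mapRingHom G (red M) '' S))) ((finrank_span_map_red_le S).trans ?_)
  · rintro _ ⟨z, hz, rfl⟩
    rw [LinearMap.mulLeft_apply, center_eq_sum_classSum ((Subalgebra.mem_toSubmodule _).1 hz),
      Finset.mul_sum]
    refine Submodule.sum_mem _ fun C _ => ?_
    rw [mul_smul_comm]
    refine Submodule.smul_mem _ _ (Submodule.subset_span ⟨_, ⟨Quotient.out C, rfl⟩, ?_⟩)
    rw [map_mul, map_classSum, map_red_blockIdemR]
  · -- over the complex numbers, through the central characters of the block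
    set eB := idemC (G := G) B
    let Φ : Subalgebra.center ℂ (MonoidAlgebra ℂ G) →ₗ[ℂ] (B → ℂ) :=
      LinearMap.pi fun χ => (omega χ.1).toLinearMap
    let V := LinearMap.range (LinearMap.mulLeft ℂ eB)
    have hV : Submodule.span ℂ (MonoidAlgebra.mapRingHom G (locRing M).subtype '' S) ≤
        V.map (Subalgebra.center ℂ (MonoidAlgebra ℂ G)).val.toLinearMap := by
      rw [Submodule.span_le]
      rintro _ ⟨_, ⟨g, rfl⟩, rfl⟩
      refine ⟨eB * classSumC ℂ g, ⟨classSumC ℂ g, rfl⟩, ?_⟩
      show ((eB * classSumC ℂ g : Subalgebra.center ℂ (MonoidAlgebra ℂ G)) : MonoidAlgebra ℂ G) = _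
      rw [MulMemClass.coe_mul, map_mul, map_classSum, map_blockIdemR]
      rfl
    refine (Submodule.finrank_mono hV).trans ((Submodule.finrank_map_le _ _).trans ?_)
    have hinj : Function.Injective (Φ.comp V.subtype) := by
      rintro ⟨a, a', rfl⟩ ⟨b, b', rfl⟩ hab
      refine Subtype.ext (omega_ext fun χ => ?_)
      show omega χ (eB * a') = omega χ (eB * b')
      rw [map_mul, map_mul, omega_idemC, blockInd]
      split_ifs with hχ
      · have h1 : omega χ (eB * a') = omega χ (eB * b') := congrFun hab ⟨χ, hχ⟩
        rwa [map_mul, map_mul, omega_idemC, blockInd, if_pos hχ] at h1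
      · rw [zero_mul, zero_mul]
    have := Fintype.ofFinite B
    refine (LinearMap.finrank_le_finrank_of_injective hinj).trans ?_
    rw [Module.finrank_fintype_fun_eq_card, Nat.card_eq_fintype_card]

/-- The trace of left multiplication in a group algebra. -/
theorem trace_mulLeft_groupAlgebra (a : MonoidAlgebra ℂ G) :
    LinearMap.trace ℂ _ (LinearMap.mulLeft ℂ a) = (Nat.card G : ℂ) * a.coeff 1 := by
  have := Fintype.ofFinite G
  rw [LinearMap.trace_eq_matrix_trace ℂ (MonoidAlgebra.basis G ℂ), Matrix.trace]
  rw [Finset.sum_congr rfl fun g _ => show Matrix.diag _ g = a.coeff 1 from ?_, Finset.sum_const,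
    Finset.card_univ, nsmul_eq_mul, Nat.card_eq_fintype_card]
  rw [Matrix.diag_apply, LinearMap.toMatrix_apply]
  simp [MonoidAlgebra.basis]

/-- A block algebra has dimension at least the sum of the squares of the degrees. -/
theorem sum_deg_sq_le (hB : IsPBlock M B) [Fintype B] :
    ∑ χ ∈ B.toFinset, charDegree (χ : G → ℂ) ^ 2 ≤
      finrank (ResField M) (LinearMap.range
        (LinearMap.mulLeft (ResField M) (blockIdem hB : MonoidAlgebra (ResField M) G))) := by
  have := Fintype.ofFinite G
  set k := ResField M
  let εR := (blockIdemR hB : MonoidAlgebra (locRing M) G)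
  let ε := (blockIdem hB : MonoidAlgebra (ResField M) G)
  let δ := (idemC B : MonoidAlgebra ℂ G)
  let S : Set (MonoidAlgebra (locRing M) G) :=
    Set.range fun g : G => (1 - εR) * MonoidAlgebra.single g 1
  have hk : LinearMap.range (LinearMap.mulLeft k (1 - ε)) ≤
      Submodule.span k (MonoidAlgebra.mapRingHom G (red M) '' S) := by
    rintro _ ⟨a, rfl⟩
    rw [LinearMap.mulLeft_apply, ← (MonoidAlgebra.basis G k).sum_repr a, Finset.mul_sum]
    refine Submodule.sum_mem _ fun g _ => ?_
    rw [mul_smul_comm]
    refine Submodule.smul_mem _ _ (Submodule.subset_span ⟨_, ⟨g, rfl⟩, ?_⟩)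
    rw [map_mul, map_sub, map_one, map_red_blockIdemR]
    simp [MonoidAlgebra.basis, ε]
  have hC : Submodule.span ℂ (MonoidAlgebra.mapRingHom G (locRing M).subtype '' S) ≤
      LinearMap.range (LinearMap.mulLeft ℂ (1 - δ)) := by
    rw [Submodule.span_le]
    rintro _ ⟨_, ⟨g, rfl⟩, rfl⟩
    refine ⟨MonoidAlgebra.single g 1, ?_⟩
    rw [map_mul, map_sub, map_one, map_blockIdemR]
    simp [δ]
  have h1 := (Submodule.finrank_mono hk).trans ((finrank_span_map_red_le S).trans
    (Submodule.finrank_mono hC))
  have hsum : finrank k (MonoidAlgebra k G) ≤ finrank k (LinearMap.range (LinearMap.mulLeft k ε)) +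
      finrank k (LinearMap.range (LinearMap.mulLeft k (1 - ε))) := by
    refine le_trans (le_of_eq ?_) (Submodule.finrank_add_le_finrank_add_finrank _ _)
    have htop : LinearMap.range (LinearMap.mulLeft k ε) ⊔
        LinearMap.range (LinearMap.mulLeft k (1 - ε)) = ⊤ := by
      refine eq_top_iff.2 fun a _ => ?_
      refine Submodule.mem_sup.2 ⟨_, ⟨a, rfl⟩, _, ⟨a, rfl⟩, ?_⟩
      rw [LinearMap.mulLeft_apply, LinearMap.mulLeft_apply, ← add_mul, add_sub_cancel, one_mul]
    rw [htop, finrank_top]
  have hδ : δ * δ = δ := by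
    have h2 : idemC B * idemC B = idemC (G := G) B := omega_ext fun χ => by
      rw [map_mul, omega_idemC, blockInd]; split_ifs <;> simp
    exact congrArg Subtype.val h2
  have hrankC : (finrank ℂ (LinearMap.range (LinearMap.mulLeft ℂ (1 - δ))) : ℂ) =
      (Nat.card G : ℂ) - ∑ χ ∈ B.toFinset, (charDegree (χ : G → ℂ) : ℂ) ^ 2 := by
    have hproj : LinearMap.IsProj (LinearMap.range (LinearMap.mulLeft ℂ (1 - δ)))
        (LinearMap.mulLeft ℂ (1 - δ)) := by
      refine ⟨fun a => ⟨a, rfl⟩, ?_⟩
      rintro _ ⟨a, rfl⟩
      simp only [LinearMap.mulLeft_apply]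
      rw [← mul_assoc, sub_mul, one_mul, mul_sub, mul_one, hδ, sub_self, sub_zero]
    rw [← hproj.trace, trace_mulLeft_groupAlgebra]
    have hG : (Nat.card G : ℂ) ≠ 0 := Nat.cast_ne_zero.2 Nat.card_pos.ne'
    simp only [δ, coe_idemC, MonoidAlgebra.coeff_sub, Finsupp.sub_apply, coeff_ofFun, blockCoeff,
      finsum_mem_eq_toFinset_sum, MonoidAlgebra.one_def]
    simp only [MonoidAlgebra.coeff_single, Finsupp.single_eq_same, mul_sub, mul_one, ← mul_assoc,
      mul_inv_cancel₀ hG, one_mul]
    congr 1
    exact Finset.sum_congr rfl fun χ _ => by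
      rw [← BlockReg.deg_cast, Complex.conj_natCast, sq]
  have hdimk : finrank k (MonoidAlgebra k G) = Nat.card G := by
    rw [Module.finrank_eq_card_basis (MonoidAlgebra.basis G k), Nat.card_eq_fintype_card]
  have hrankN : finrank ℂ (LinearMap.range (LinearMap.mulLeft ℂ (1 - δ))) +
      ∑ χ ∈ B.toFinset, charDegree (χ : G → ℂ) ^ 2 = Nat.card G := by
    apply Nat.cast_injective (R := ℂ)
    push_cast
    rw [hrankC]
    ring
  change _ ≤ finrank k (LinearMap.range (LinearMap.mulLeft k ε))
  omega

/-- A lattice for a character of the block, reduced: a representation of the modular group algebra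
in which the block idempotent is the identity. -/
theorem exists_reduction (hB : IsPBlock M B) {χ : IrrCharacter G}
    (hχ : χ ∈ B) : ∃ (L : Type) (_ : Field L) (_ : Algebra (ResField M) L)
      (Φ : MonoidAlgebra (ResField M) G →ₐ[ResField M]
        Matrix (Fin (charDegree (χ : G → ℂ))) (Fin (charDegree (χ : G → ℂ))) L),
      Φ (blockIdem hB : MonoidAlgebra (ResField M) G) = 1 := by
  have := Fintype.ofFinite G
  obtain ⟨n, ρ, hρ, hχρ⟩ := χ.2
  have := hρ
  -- a valuation ring over the local ring
  have hker : RingHom.ker (red M) ≠ ⊤ := RingHom.ker_ne_top _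
  obtain ⟨A, hRA, hnon⟩ := Ideal.image_subset_nonunits_valuationSubring _ hker
  obtain ⟨d, b, hb⟩ := CfsgLib.Blk83.Lattice.exists_integral_basis A ρ
  have hd : charDegree (χ : G → ℂ) = d := by
    apply Nat.cast_injective (R := ℂ)
    rw [BlockReg.deg_cast, ← hχρ, Representation.char_one, Module.finrank_eq_card_basis b,
      Fintype.card_fin]
  rw [hd]
  let incl : locRing M →+* A := (locRing M).subtype.codRestrict A fun z => hRA z.2
  let π : A →+* IsLocalRing.ResidueField A := IsLocalRing.residue A
  have hkill : RingHom.ker (red M) ≤ RingHom.ker (π.comp incl) := fun z hz => by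
    rw [RingHom.mem_ker, RingHom.comp_apply, IsLocalRing.residue_eq_zero_iff,
      IsLocalRing.mem_maximalIdeal, mem_nonunits_iff]
    exact (ValuationSubring.coe_mem_nonunits_iff.1 (hnon ⟨z, hz, rfl⟩ :
      ((incl z : A) : ℂ) ∈ A.nonunits) : incl z ∈ IsLocalRing.maximalIdeal A)
  let j : ResField M →+* IsLocalRing.ResidueField A :=
    RingHom.liftOfSurjective (red M) (red_surjective (M := M)) ⟨π.comp incl, hkill⟩
  have hj : ∀ z, j (red M z) = π (incl z) := fun z =>
    RingHom.liftOfRightInverse_comp_apply _ _ _ ⟨π.comp incl, hkill⟩ z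
  let _ := j.toAlgebra
  let Mg : G →* Matrix (Fin d) (Fin d) A :=
    { toFun := fun g => Matrix.of fun u v => ⟨LinearMap.toMatrix b b (ρ g) u v, hb g u v⟩
      map_one' := by
        ext u v
        simp [LinearMap.toMatrix_one, Matrix.one_apply, apply_ite (Subtype.val : A → ℂ)]
      map_mul' := fun g g' => by
        ext u v
        simp [LinearMap.toMatrix_mul, Matrix.mul_apply] }
  refine ⟨IsLocalRing.ResidueField A, inferInstance, j.toAlgebra,
    MonoidAlgebra.lift _ _ G ((π.mapMatrix : _ →+* Matrix (Fin d) (Fin d) _).toMonoidHom.comp Mg), ?_⟩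
  -- the block idempotent acts by its central character
  have hC : ∑ g, blockCoeff B g • LinearMap.toMatrix b b (ρ g) = 1 := by
    have hf : IsClassFunction G (blockCoeff B) := fun g u => blockCoeff_conj B u g
    have h1 := opOfFun_irreducible ρ hf
    have h2 := omega_idemC B χ
    rw [omega_eq_sum, coe_idemC, blockInd, if_pos hχ] at h2
    simp only [coeff_ofFun, ← hχρ, Representation.char_one] at h2
    have h3 : ∑ g, blockCoeff B g • ρ g = 1 := by
      rw [show (∑ g, blockCoeff B g • ρ g) = opOfFun ρ (blockCoeff B) from rfl, h1, h2, one_smul]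
      rfl
    rw [← LinearMap.toMatrix_one b, ← h3, map_sum]
    simp
  rw [MonoidAlgebra.lift_apply, Finsupp.sum_fintype _ _ (fun g => by simp)]
  have hA : ∑ g, (incl ⟨blockCoeff B g, blockCoeff_mem hB g⟩) • Mg g = 1 := by
    ext u v
    have h1 := congrFun (congrFun hC u) v
    simp only [Matrix.sum_apply, Matrix.smul_apply] at h1 ⊢
    rw [AddSubmonoidClass.coe_finsetSum]
    refine Eq.trans ?_ (h1.trans ?_)
    · exact Finset.sum_congr rfl fun g _ => rfl
    · simp [Matrix.one_apply, apply_ite (Subtype.val : A → ℂ)]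
  have h4 := congrArg π.mapMatrix hA
  rw [map_sum, map_one] at h4
  rw [← h4]
  refine Finset.sum_congr rfl fun g _ => ?_
  rw [coeff_blockIdem]
  ext u v
  show j (red M _) * π (Mg g u v) = π ((incl _ • Mg g) u v)
  rw [Matrix.smul_apply, smul_eq_mul, map_mul, hj]

end CfsgLib.Brandt
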